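import Cfsg.Agent.Lib.Helper12.SC3.G

/-!
# S1904 farm — PART PC2 (noncentral case), sub-farm of helper12: definitions.  Blueprint "Case 2".

`N` = a maximal `A`-invariant normal abelian subgroup of `X` which is NOT central.  `R = Om1Z X`.
`Ec x v = v⁻¹ x⁻¹ v x` (`= E_x(v)` of the blueprint; for `v ∈ N`: `x⁻¹ v x = v * Ec x v`).
`N_k = {m ^ (2 ^ k) | m ∈ N}` is written out as `∃ m ∈ N, _ = m ^ (2 ^ k)` (`m ^ 2`, `m ^ 4` for `k = 1, 2`).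
-/

set_option autoImplicit false

namespace Cfsg.Agent.Lib.Helper12.SC3.PC2

variable {X : Type*} [Group X]

/-- `E_x(v) = v⁻¹ x⁻¹ v x` -/
def Ec (x v : X) : X := v⁻¹ * x⁻¹ * v * x

structure Ctx2 (A : Subgroup (MulAut X)) (N : Subgroup X) : Prop where
  hyp : Hyp A
  nN : N.Normal
  inv : Inv A N
  ab : Ab N
  ncen : ¬ N ≤ Subgroup.center X
  max : ∀ M : Subgroup X, M.Normal → Inv A M → Ab M → N ≤ M → M = N

/-- `N ≅ Z_{2^n} × Z_{2^n}`, `n ≥ 2`, `Ω₁(N) = R = Om1Z X` of order 4, `A`-irreducible -/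
structure Ctx3 (A : Subgroup (MulAut X)) (N : Subgroup X) (n : ℕ) : Prop where
  c : Ctx2 A N
  two_le : 2 ≤ n
  card : Nat.card N = 4 ^ n
  exp : ∀ v ∈ N, v ^ (2 ^ n) = 1
  div : ∀ k ≤ n, ∀ v ∈ N, v ^ (2 ^ k) = 1 → ∃ u ∈ N, v = u ^ (2 ^ (n - k))
  R4 : Nat.card (Om1Z X) = 4
  RN : Om1Z X ≤ N
  om : ∀ v ∈ N, v ^ 2 = 1 → v ∈ Om1Z X
  irr : ∀ S : Subgroup X, S ≤ Om1Z X → Inv A S → S = ⊥ ∨ S = Om1Z X

/-- the configuration refuted in (2.1): `Y/N` a minimal `A`-invariant normal subgroup of `X/N` inside `C_X(N)/N` -/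
structure YCtx (A : Subgroup (MulAut X)) (N Y : Subgroup X) : Prop where
  nY : Y.Normal
  inv : Inv A Y
  le : N ≤ Y
  ne : Y ≠ N
  cent : Y ≤ Subgroup.centralizer (N : Set X)
  comm : ∀ y ∈ Y, ∀ x : X, y * x * y⁻¹ * x⁻¹ ∈ N
  sq : ∀ y ∈ Y, y ^ 2 ∈ N
  irr : ∀ S : Subgroup X, Inv A S → N ≤ S → S ≤ Y → S = N ∨ S = Y

end Cfsg.Agent.Lib.Helper12.SC3.PC2
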