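import Cfsg.Agent.Lib.Helper12.SC3.PC2.Defs
import Cfsg.Agent.Lib.Helper10.PGroup

/-!
# S1904 farm — PART PC2 sub-farm (architect helper12) — leaf Q01
Paper proof: `SC3/Blueprint.lean`, Case 2.  Definitions: `SC3/Defs.lean`, `SC3/PC2/Defs.lean`; shared lemmas (G2,G3,G4) in `SC3/G.lean` may be used as black boxes.
Only replace the `sorry`; names / statements / namespace verbatim; aux lemmas with fresh names in sub-namespace `Q01`.

RECIPE.  Blueprint (G5).  `Ω = {v ∈ N | v² = 1}` is an exponent-2 subgroup of the normal abelian `N`, so `|Ω| ≤ 4` (`Hyp.rk`).  If every `φ ∈ A` fixed `Ω` pointwise, then by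
`fix_of_fix_involutions` (each `φ ∈ A` has odd order since `|A|` is odd) `A` fixes `N` pointwise, and `central_of_fixed` makes `N` central.  So some `φ ∈ A` moves an involution of `Ω`:
`|Ω| = 4` and `φ` permutes its three involutions cyclically (odd order), so no subgroup of order 2 of `Ω` is `A`-invariant.  `N ⊓ center X ≠ ⊥` (normal subgroup of a 2-group), it is
`A`-invariant, so its involutions form a nontrivial `A`-invariant subgroup of `Ω`, which is `Ω`; thus `Ω ≤ center`, `Ω ≤ Om1Z X`; `|Om1Z X| ≤ 4` by `Hyp.rk` for `M = center X`; so `Ω = Om1Z X`.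
-/

set_option autoImplicit false

namespace Cfsg.Agent.Lib.Helper12.SC3.PC2

variable {X : Type*} [Group X] {A : Subgroup (MulAut X)} {N : Subgroup X} {n : ℕ}

namespace Q01

/-- `Ω = {v ∈ N | v² = 1}` -/
def Om (N : Subgroup X) (hab : Ab N) : Subgroup X where
  carrier := {v | v ∈ N ∧ v ^ 2 = 1}
  one_mem' := ⟨Subgroup.one_mem _, one_pow 2⟩
  inv_mem' := by
    rintro v ⟨hv, h2⟩
    exact ⟨Subgroup.inv_mem _ hv, by rw [inv_pow, h2, inv_one]⟩
  mul_mem' := by
    rintro a b ⟨ha, ha2⟩ ⟨hb, hb2⟩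
    refine ⟨Subgroup.mul_mem _ ha hb, ?_⟩
    have hc : Commute a b := hab a ha b hb
    rw [hc.mul_pow, ha2, hb2, one_mul]

theorem mem_Om {hab : Ab N} {v : X} : v ∈ Om N hab ↔ v ∈ N ∧ v ^ 2 = 1 := Iff.rfl

theorem odd_orderOf (hodd : Odd (Nat.card A)) {φ : MulAut X} (hφ : φ ∈ A) : Odd (orderOf φ) := by
  have h1 : orderOf (⟨φ, hφ⟩ : A) ∣ Nat.card A := orderOf_dvd_natCard _
  rw [Subgroup.orderOf_mk] at h1
  exact Odd.of_dvd_nat hodd h1

theorem pow_fix {ψ : MulAut X} {w : X} (h : ψ w = w) (j : ℕ) : (ψ ^ j) w = w := by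
  induction j with
  | zero => simp
  | succ j ih => rw [pow_succ, MulAut.mul_apply, h, ih]

/-- an automorphism of odd order with `φ (φ v) = v` fixes `v` -/
theorem odd_fix {φ : MulAut X} (hodd : Odd (orderOf φ)) {v : X} (h2 : φ (φ v) = v) : φ v = v := by
  obtain ⟨k, hk⟩ := hodd
  have hψ : (φ ^ 2) (φ v) = φ v := by
    rw [pow_two, MulAut.mul_apply, h2]
  have h1 : (φ ^ (2 * k + 1)) v = v := by
    rw [← hk, pow_orderOf_eq_one]; rfl
  rw [pow_succ, MulAut.mul_apply, pow_mul, pow_fix hψ k] at h1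
  exact h1

variable [Finite X]

theorem Om_card_le (c : Ctx2 A N) : Nat.card (Om N c.ab) ≤ 4 :=
  c.hyp.rk N c.nN c.ab (Om N c.ab) (fun _ hv => hv.1) (fun _ he => he.2)

theorem exists_moved (c : Ctx2 A N) : ∃ φ ∈ A, ∃ v ∈ Om N c.ab, φ v ≠ v := by
  by_contra hcon
  push Not at hcon
  apply c.ncen
  apply central_of_fixed c.hyp.gen N c.nN
  intro φ hφ
  exact fix_of_fix_involutions c.hyp.two N c.ab φ (odd_orderOf c.hyp.odd hφ) (c.inv φ hφ)
    (fun v hv h2 => hcon φ hφ v ⟨hv, h2⟩)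

theorem map_mem_Om (c : Ctx2 A N) {φ : MulAut X} (hφ : φ ∈ A) {v : X} (hv : v ∈ Om N c.ab) :
    φ v ∈ Om N c.ab :=
  ⟨c.inv φ hφ v hv.1, by rw [← map_pow, hv.2, map_one]⟩

/-- `Ω` is `A`-irreducible -/
theorem irr_Om (c : Ctx2 A N) (S : Subgroup X) (hS : S ≤ Om N c.ab) (hinv : Inv A S) :
    S = ⊥ ∨ S = Om N c.ab := by
  by_contra hcon
  push Not at hcon
  obtain ⟨hne, hneq⟩ := hcon
  obtain ⟨φ, hφ, v, hv, hmv⟩ := exists_moved c
  have hdvd : Nat.card S ∣ Nat.card (Om N c.ab) := Subgroup.card_dvd_of_le hS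
  have hle4 := Om_card_le c
  have h1 : Nat.card S ≠ 1 := fun h => hne (Subgroup.card_eq_one.mp h)
  have hlt : Nat.card S < Nat.card (Om N c.ab) := by
    by_contra hge
    push Not at hge
    exact hneq (Subgroup.eq_of_le_of_card_ge hS hge)
  have hpos : 0 < Nat.card S := Nat.card_pos
  have hS2 : Nat.card S = 2 ∧ Nat.card (Om N c.ab) = 4 := by
    have : Nat.card (Om N c.ab) = 3 ∨ Nat.card (Om N c.ab) = 4 := by omega
    rcases this with h3 | h4
    · rw [h3] at hdvd hlt
      have : Nat.card S = 2 := by omega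
      rw [this] at hdvd
      omega
    · rw [h4] at hdvd hlt
      have : Nat.card S = 2 ∨ Nat.card S = 3 := by omega
      rcases this with h | h
      · exact ⟨h, h4⟩
      · rw [h] at hdvd; omega
  -- every element of `A` fixes `S` pointwise
  have hfixS : ∀ ψ ∈ A, ∀ s ∈ S, ψ s = s := by
    intro ψ hψ s hs
    by_cases hs1 : s = 1
    · rw [hs1, map_one]
    · obtain ⟨y, _, hy⟩ := (Nat.card_eq_two_iff' (1 : S)).mp hS2.1
      have e1 : (⟨s, hs⟩ : S) = y := hy _ (fun h => hs1 (by simpa using congrArg Subtype.val h))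
      have hψs : ψ s ≠ 1 := fun h => hs1 (by simpa using h)
      have e2 : (⟨ψ s, hinv ψ hψ s hs⟩ : S) = y :=
        hy _ (fun h => hψs (by simpa using congrArg Subtype.val h))
      have := e2.trans e1.symm
      simpa using congrArg Subtype.val this
  -- index two
  have hidx : (S.subgroupOf (Om N c.ab)).index = 2 := by
    have h1 := Subgroup.card_mul_index (S.subgroupOf (Om N c.ab))
    have h2 : Nat.card (S.subgroupOf (Om N c.ab)) = Nat.card S :=
      Nat.card_congr (Subgroup.subgroupOfEquivOfLe hS).toEquiv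
    rw [h2, hS2.1, hS2.2] at h1
    omega
  have hφv : φ v ∈ Om N c.ab := map_mem_Om c hφ hv
  have hmem : v⁻¹ * φ v ∈ S := by
    have key := Subgroup.mul_mem_iff_of_index_two hidx
      (a := (⟨v⁻¹, Subgroup.inv_mem _ hv⟩ : Om N c.ab)) (b := (⟨φ v, hφv⟩ : Om N c.ab))
    have : ((⟨v⁻¹, Subgroup.inv_mem _ hv⟩ : Om N c.ab) ∈ S.subgroupOf (Om N c.ab) ↔
        (⟨φ v, hφv⟩ : Om N c.ab) ∈ S.subgroupOf (Om N c.ab)) := by
      simp only [Subgroup.mem_subgroupOf]
      constructor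
      · intro h
        exact hinv φ hφ v (by simpa using Subgroup.inv_mem _ h)
      · intro h
        have h' := hinv φ⁻¹ (Subgroup.inv_mem _ hφ) (φ v) h
        have e : φ⁻¹ (φ v) = v := by simp
        rw [e] at h'
        exact Subgroup.inv_mem _ h'
    have := key.mpr this
    simpa [Subgroup.mem_subgroupOf] using this
  set t := v⁻¹ * φ v with ht
  have hφt : φ t = t := hfixS φ hφ t hmem
  have ht2 : t ^ 2 = 1 := (hS hmem).2
  have hφv' : φ v = v * t := by rw [ht]; group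
  have h2 : φ (φ v) = v := by
    rw [hφv', map_mul, hφv', hφt, mul_assoc, ← pow_two, ht2, mul_one]
  exact hmv (odd_fix (odd_orderOf c.hyp.odd hφ) h2)

end Q01

theorem omega_facts [Finite X] (c : Ctx2 A N) :
    Nat.card (Om1Z X) = 4 ∧ Om1Z X ≤ N ∧ (∀ v ∈ N, v ^ 2 = 1 → v ∈ Om1Z X) ∧
      (∀ S : Subgroup X, S ≤ Om1Z X → Inv A S → S = ⊥ ∨ S = Om1Z X) := by
  have hΩle := Q01.Om_card_le c
  obtain ⟨φ, hφ, v, hv, hmv⟩ := Q01.exists_moved c
  -- `|Ω| = 4`
  have hΩ4 : Nat.card (Q01.Om N c.ab) = 4 := by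
    have hp : IsPGroup 2 (Q01.Om N c.ab) := c.hyp.two.to_subgroup _
    rcases hp.card_eq_or_dvd with h1 | h2
    · exfalso
      have hbot := Subgroup.card_eq_one.mp h1
      have : v = 1 := by
        have : v ∈ (⊥ : Subgroup X) := hbot ▸ hv
        simpa using this
      exact hmv (by rw [this, map_one])
    · have : Nat.card (Q01.Om N c.ab) = 2 ∨ Nat.card (Q01.Om N c.ab) = 4 := by
        have hpos : 0 < Nat.card (Q01.Om N c.ab) := Nat.card_pos
        obtain ⟨k, hk⟩ := h2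
        omega
      rcases this with h | h
      · exfalso
        obtain ⟨y, _, hy⟩ := (Nat.card_eq_two_iff' (1 : Q01.Om N c.ab)).mp h
        have hv1 : v ≠ 1 := fun h1 => hmv (by rw [h1, map_one])
        have hφv1 : φ v ≠ 1 := fun h1 => hv1 (by simpa using h1)
        have e1 : (⟨v, hv⟩ : Q01.Om N c.ab) = y :=
          hy _ (fun h => hv1 (by simpa using congrArg Subtype.val h))
        have e2 : (⟨φ v, Q01.map_mem_Om c hφ hv⟩ : Q01.Om N c.ab) = y :=
          hy _ (fun h => hφv1 (by simpa using congrArg Subtype.val h))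
        have := e2.trans e1.symm
        exact hmv (by simpa using congrArg Subtype.val this)
      · exact h
  -- `N ⊓ center` contains an involution, so `Ω ⊓ center ≠ ⊥`
  have hNne : N ≠ ⊥ := by
    intro h
    apply c.ncen
    rw [h]; exact bot_le
  have := c.nN
  have hT : N ⊓ Subgroup.center X ≠ ⊥ :=
    Cfsg.Agent.Lib.Helper10.normal_inf_center_ne_bot c.hyp.two N hNne
  let T₂ : Subgroup X := Q01.Om N c.ab ⊓ Subgroup.center X
  have hT₂le : T₂ ≤ Q01.Om N c.ab := inf_le_left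
  have hT₂inv : Inv A T₂ := by
    intro ψ hψ x hx
    have hx1 : x ∈ Q01.Om N c.ab := (Subgroup.mem_inf.mp hx).1
    have hx2 : x ∈ Subgroup.center X := (Subgroup.mem_inf.mp hx).2
    refine Subgroup.mem_inf.mpr ⟨Q01.map_mem_Om c hψ hx1, ?_⟩
    rw [Subgroup.mem_center_iff] at hx2 ⊢
    intro g
    have := congrArg ψ (hx2 (ψ⁻¹ g))
    simpa using this
  have hT₂ne : T₂ ≠ ⊥ := by
    -- an element of order two in `N ⊓ center`
    have hpT : IsPGroup 2 (N ⊓ Subgroup.center X : Subgroup X) := c.hyp.two.to_subgroup _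
    have hdvd : 2 ∣ Nat.card (N ⊓ Subgroup.center X : Subgroup X) := by
      rcases hpT.card_eq_or_dvd with h1 | h2
      · exact absurd (Subgroup.card_eq_one.mp h1) hT
      · exact h2
    have : Fact (Nat.Prime 2) := ⟨Nat.prime_two⟩
    obtain ⟨g, hg⟩ := exists_prime_orderOf_dvd_card' 2 hdvd
    intro hbot
    have hg1 : (g : X) ≠ 1 := by
      intro h
      have : g = 1 := Subtype.ext h
      rw [this, orderOf_one] at hg
      norm_num at hg
    have hg2 : (g : X) ^ 2 = 1 := by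
      have := pow_orderOf_eq_one g
      rw [hg] at this
      simpa using congrArg Subtype.val this
    have : (g : X) ∈ T₂ := ⟨⟨g.2.1, hg2⟩, g.2.2⟩
    rw [hbot] at this
    exact hg1 (by simpa using this)
  have hT₂eq : T₂ = Q01.Om N c.ab := by
    rcases Q01.irr_Om c T₂ hT₂le hT₂inv with h | h
    · exact absurd h hT₂ne
    · exact h
  have hΩcen : Q01.Om N c.ab ≤ Subgroup.center X := by
    rw [← hT₂eq]; exact inf_le_right
  have hΩleR : Q01.Om N c.ab ≤ Om1Z X := fun x hx => ⟨hΩcen hx, hx.2⟩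
  have hRle : Nat.card (Om1Z X) ≤ 4 := by
    refine c.hyp.rk (Subgroup.center X) inferInstance ?_ (Om1Z X) (fun x hx => hx.1) (fun x hx => hx.2)
    intro a ha b _
    exact (Subgroup.mem_center_iff.mp ha b).symm
  have hEq : Q01.Om N c.ab = Om1Z X :=
    Subgroup.eq_of_le_of_card_ge hΩleR (by rw [hΩ4]; exact hRle)
  refine ⟨by rw [← hEq]; exact hΩ4, ?_, ?_, ?_⟩
  · rw [← hEq]; exact fun x hx => hx.1
  · intro x hx h2
    rw [← hEq]; exact ⟨hx, h2⟩
  · intro S hS hinv
    rw [← hEq] at hS ⊢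
    exact Q01.irr_Om c S hS hinv

end Cfsg.Agent.Lib.Helper12.SC3.PC2
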