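import Cfsg.Agent.Lib.Helper12.SC3.PC2.Defs
import Cfsg.Agent.Lib.Helper12.SC3Q02

/-!
# S1904 farm — PART PC2 sub-farm (architect helper12) — leaf Q02
Paper proof: `SC3/Blueprint.lean`, Case 2.  Definitions: `SC3/Defs.lean`, `SC3/PC2/Defs.lean`; shared lemmas (G2,G3,G4) in `SC3/G.lean` may be used as black boxes.
Only replace the `sorry`; names / statements / namespace verbatim; aux lemmas with fresh names in sub-namespace `Q02`.

RECIPE.  Blueprint (G5), homocyclic part.  `Ω_k = {v ∈ N | v^(2^k) = 1}` (subgroups, `N` abelian), `Ω_1 = Om1Z X` of order 4.  Squaring induces an injective `A`-equivariant map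
`Ω_{k+1}/Ω_k → Ω_k/Ω_{k-1}`, so by induction each factor embeds `A`-equivariantly into `Ω_1`, hence (irreducibility `hirr`) has order 1 or 4.  Let `2^n` be the exponent of `N`:
all factors `Ω_{k+1}/Ω_k`, `k < n`, are nontrivial, so `|N| = 4^n`; `n ≥ 2` because `n ≤ 1` gives `N = Ω_1 ≤ center X`, against `c.ncen`.
`div`: `v ↦ v^(2^(n-k))` is an endomorphism of `N` with kernel `Ω_{n-k}` of order `4^(n-k)`, so its image has order `4^k = |Ω_k|` and lies in `Ω_k`: equality.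
-/

set_option autoImplicit false

namespace Cfsg.Agent.Lib.Helper12.SC3.PC2

variable {X : Type*} [Group X] {A : Subgroup (MulAut X)} {N : Subgroup X} {n : ℕ}

theorem homocyclic [Finite X] (c : Ctx2 A N) (hR4 : Nat.card (Om1Z X) = 4) (hRN : Om1Z X ≤ N)
    (hom : ∀ v ∈ N, v ^ 2 = 1 → v ∈ Om1Z X)
    (hirr : ∀ S : Subgroup X, S ≤ Om1Z X → Inv A S → S = ⊥ ∨ S = Om1Z X) :
    ∃ n : ℕ, 2 ≤ n ∧ Nat.card N = 4 ^ n ∧ (∀ v ∈ N, v ^ (2 ^ n) = 1) ∧
      (∀ k ≤ n, ∀ v ∈ N, v ^ (2 ^ k) = 1 → ∃ u ∈ N, v = u ^ (2 ^ (n - k))) := by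
  exact Q02.homocyclic' c hR4 hom hirr

end Cfsg.Agent.Lib.Helper12.SC3.PC2
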