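import Cfsg.Agent.Lib.Helper12.SC3.PC2.Defs

/-!
# S1904 farm — PART PC2 sub-farm (architect helper12) — leaf Q04a
Paper proof: `SC3/Blueprint.lean`, Case 2.  Definitions: `SC3/Defs.lean`, `SC3/PC2/Defs.lean`; shared lemmas (G2,G3,G4) in `SC3/G.lean` may be used as black boxes.
Only replace the `sorry`; names / statements / namespace verbatim; aux lemmas with fresh names in sub-namespace `Q04a`.

RECIPE.  Blueprint (2.1), existence part.  `C = centralizer N` is normal, `A`-invariant, `N ≤ C` (`N` abelian), `C ≠ N`.  Among the `A`-invariant normal subgroups `Y` of `X` with `N < Y ≤ C` take a minimal one.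
`[Y,X]N` is `A`-invariant normal, `N ≤ [Y,X]N < Y` (nilpotency: a normal subgroup `Y/N ≠ 1` of the 2-group `X/N` has `[Y/N, X/N] < Y/N`), so `[Y,X] ≤ N` (`comm`).
`{y ∈ Y | y² ∈ N}` is then an `A`-invariant normal subgroup containing `N` (`Y/N` is abelian) and `≠ N` (`Y/N ≠ 1` is a 2-group), so it is `Y` (`sq`).
Any `A`-invariant `S` with `N ≤ S ≤ Y` is normal in `X` (`[S,X] ≤ [Y,X] ≤ N ≤ S`), so `S = N` or `S = Y` by minimality (`irr`).
-/

set_option autoImplicit false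

namespace Cfsg.Agent.Lib.Helper12.SC3.PC2

variable {X : Type*} [Group X] {A : Subgroup (MulAut X)} {N : Subgroup X} {n : ℕ}

namespace Q04a

/-- `{w | ∀ x, [w,x] ∈ N}` for a normal subgroup `N` -/
def CN (N : Subgroup X) (hN : N.Normal) : Subgroup X where
  carrier := {w | ∀ x : X, w * x * w⁻¹ * x⁻¹ ∈ N}
  one_mem' := by
    intro x
    have h1 : (1 : X) * x * 1⁻¹ * x⁻¹ = 1 := by group
    rw [h1]
    exact N.one_mem
  mul_mem' := by
    intro a b ha hb x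
    have h1 : (a * b) * x * (a * b)⁻¹ * x⁻¹ = a * (b * x * b⁻¹ * x⁻¹) * a⁻¹ * (a * x * a⁻¹ * x⁻¹) := by
      group
    rw [h1]
    exact N.mul_mem (hN.conj_mem _ (hb x) a) (ha x)
  inv_mem' := by
    intro a ha x
    have h1 : a⁻¹ * x * a⁻¹⁻¹ * x⁻¹ = a⁻¹ * (a * x * a⁻¹ * x⁻¹)⁻¹ * a⁻¹⁻¹ := by group
    rw [h1]
    exact hN.conj_mem _ (N.inv_mem (ha x)) a⁻¹

theorem mem_CN {N : Subgroup X} {hN : N.Normal} {w : X} :
    w ∈ CN N hN ↔ ∀ x : X, w * x * w⁻¹ * x⁻¹ ∈ N := Iff.rfl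

/-- `{w | w² ∈ N ∧ ∀ x, [w,x] ∈ N}` for a normal subgroup `N` -/
def WN (N : Subgroup X) (hN : N.Normal) : Subgroup X where
  carrier := {w | w ^ 2 ∈ N ∧ w ∈ CN N hN}
  one_mem' := ⟨by simp [N.one_mem], (CN N hN).one_mem⟩
  mul_mem' := by
    rintro a b ⟨ha2, ha⟩ ⟨hb2, hb⟩
    refine ⟨?_, (CN N hN).mul_mem ha hb⟩
    have h1 : (a * b) ^ 2 = a ^ 2 * (a⁻¹ * (b * a * b⁻¹ * a⁻¹) * a⁻¹⁻¹) * b ^ 2 := by
      rw [pow_two, pow_two, pow_two]; group
    rw [h1]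
    exact N.mul_mem (N.mul_mem ha2 (hN.conj_mem _ (hb a) a⁻¹)) hb2
  inv_mem' := by
    rintro a ⟨ha2, ha⟩
    refine ⟨?_, (CN N hN).inv_mem ha⟩
    rw [inv_pow]
    exact N.inv_mem ha2

theorem mem_WN {N : Subgroup X} {hN : N.Normal} {w : X} :
    w ∈ WN N hN ↔ w ^ 2 ∈ N ∧ ∀ x : X, w * x * w⁻¹ * x⁻¹ ∈ N := Iff.rfl

theorem le_WN {N : Subgroup X} (hN : N.Normal) : N ≤ WN N hN := by
  intro w hw
  refine ⟨N.pow_mem hw 2, fun x => ?_⟩
  have h1 : w * x * w⁻¹ * x⁻¹ = w * (x * w⁻¹ * x⁻¹) := by group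
  rw [h1]
  exact N.mul_mem hw (hN.conj_mem _ (N.inv_mem hw) x)

theorem inv_WN {A : Subgroup (MulAut X)} {N : Subgroup X} (hN : N.Normal) (hinv : Inv A N) :
    Inv A (WN N hN) := by
  rintro φ hφ w ⟨hw2, hwx⟩
  refine ⟨?_, fun x => ?_⟩
  · rw [← map_pow]
    exact hinv φ hφ _ hw2
  · have h1 := hinv φ hφ _ (hwx (φ⁻¹ x))
    simpa using h1

theorem inv_centralizer {A : Subgroup (MulAut X)} {N : Subgroup X} (hinv : Inv A N) :
    Inv A (Subgroup.centralizer (N : Set X)) := by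
  intro φ hφ d hd
  rw [Subgroup.mem_centralizer_iff] at hd ⊢
  intro v hv
  have hv' : φ⁻¹ v ∈ N := hinv φ⁻¹ (A.inv_mem hφ) v hv
  have h1 := congrArg φ (hd _ hv')
  simpa using h1

/-- a normal subgroup `D ⊄ N` of a finite `2`-group contains an element outside `N` which is central modulo `N` -/
theorem exists_rel_central [Finite X] (h2 : IsPGroup 2 X) (N D : Subgroup X) (hN : N.Normal) (hD : D.Normal)
    (hDN : ¬ D ≤ N) : ∃ d ∈ D, d ∉ N ∧ ∀ x : X, d * x * d⁻¹ * x⁻¹ ∈ N := by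
  classical
  have := hN
  have : Fact (Nat.Prime 2) := ⟨Nat.prime_two⟩
  have hQ : IsPGroup 2 (X ⧸ N) := h2.to_quotient N
  have : Group.IsNilpotent (X ⧸ N) := hQ.isNilpotent
  obtain ⟨n0, hn0⟩ := Group.IsNilpotent.nilpotent (X ⧸ N)
  have hex : ∃ k : ℕ, ∃ d ∈ D, (d : X ⧸ N) ∈ Subgroup.upperCentralSeries (X ⧸ N) k ∧ d ∉ N := by
    obtain ⟨d, hd, hdN⟩ := SetLike.not_le_iff_exists.mp hDN
    exact ⟨n0, d, hd, by rw [hn0]; exact Subgroup.mem_top _, hdN⟩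
  obtain ⟨d, hdD, hdk, hdN⟩ := Nat.find_spec hex
  have hmin := fun m (hm : m < Nat.find hex) => Nat.find_min hex hm
  generalize Nat.find hex = k at hdk hmin
  rcases k with _ | m
  · exfalso
    rw [Subgroup.upperCentralSeries_zero, Subgroup.mem_bot, QuotientGroup.eq_one_iff] at hdk
    exact hdN hdk
  · refine ⟨d, hdD, hdN, fun x => ?_⟩
    by_contra hcon
    have h1 : ((d * x * d⁻¹ * x⁻¹ : X) : X ⧸ N) ∈ Subgroup.upperCentralSeries (X ⧸ N) m :=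
      Subgroup.mem_upperCentralSeries_succ_iff.mp hdk (x : X ⧸ N)
    have h2' : d * x * d⁻¹ * x⁻¹ ∈ D := by
      have h3 : d * x * d⁻¹ * x⁻¹ = d * (x * d⁻¹ * x⁻¹) := by group
      rw [h3]
      exact D.mul_mem hdD (hD.conj_mem _ (D.inv_mem hdD) x)
    exact hmin m (by omega) ⟨_, h2', h1, hcon⟩

/-- the last `2`-power of `d` outside `N` -/
theorem exists_last_power_rel (h2 : IsPGroup 2 X) (N D : Subgroup X) (hN : N.Normal) {d : X} (hdD : d ∈ D)
    (hdN : d ∉ N) (hd : ∀ x : X, d * x * d⁻¹ * x⁻¹ ∈ N) :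
    ∃ d' ∈ D, d' ∉ N ∧ d' ^ 2 ∈ N ∧ ∀ x : X, d' * x * d'⁻¹ * x⁻¹ ∈ N := by
  classical
  obtain ⟨k, hk⟩ := h2 d
  have hex : ∃ j : ℕ, d ^ 2 ^ j ∈ N := ⟨k, by rw [hk]; exact N.one_mem⟩
  have hspec := Nat.find_spec hex
  have hmin := fun m (hm : m < Nat.find hex) => Nat.find_min hex hm
  generalize Nat.find hex = j at hspec hmin
  rcases j with _ | j
  · exfalso
    apply hdN
    simpa using hspec
  · have hd2 : d ∈ CN N hN := hd
    have hd2' : d ^ 2 ^ j ∈ CN N hN := Subgroup.pow_mem _ hd2 _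
    refine ⟨d ^ 2 ^ j, Subgroup.pow_mem _ hdD _, hmin j (by omega), ?_, hd2'⟩
    rw [← pow_mul, ← pow_succ]
    exact hspec

end Q04a

theorem exists_Y [Finite X] (c : Ctx3 A N n) (hne : Subgroup.centralizer (N : Set X) ≠ N) :
    ∃ Y : Subgroup X, YCtx A N Y := by
  classical
  have hN : N.Normal := c.c.nN
  have h2 : IsPGroup 2 X := c.c.hyp.two
  have hNC : N ≤ Subgroup.centralizer (N : Set X) := by
    intro v hv
    rw [Subgroup.mem_centralizer_iff]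
    intro w hw
    exact c.c.ab w hw v hv
  have hCnormal : (Subgroup.centralizer (N : Set X)).Normal := by
    have := hN
    infer_instance
  have hCN : ¬ Subgroup.centralizer (N : Set X) ≤ N := fun hle => hne (le_antisymm hle hNC)
  obtain ⟨d, hdC, hdN, hd⟩ := Q04a.exists_rel_central h2 N _ hN hCnormal hCN
  obtain ⟨d', hd'C, hd'N, hd'2, hd'⟩ := Q04a.exists_last_power_rel h2 N _ hN hdC hdN hd
  -- the family
  have hex : ∃ k : ℕ, ∃ Y : Subgroup X, Inv A Y ∧ N ≤ Y ∧ Y ≠ N ∧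
      Y ≤ Subgroup.centralizer (N : Set X) ⊓ Q04a.WN N hN ∧ Nat.card Y = k := by
    refine ⟨_, Subgroup.centralizer (N : Set X) ⊓ Q04a.WN N hN, ?_, le_inf hNC (Q04a.le_WN hN), ?_, le_rfl, rfl⟩
    · intro φ hφ x hx
      exact ⟨Q04a.inv_centralizer c.c.inv φ hφ x hx.1, Q04a.inv_WN hN c.c.inv φ hφ x hx.2⟩
    · intro heq
      apply hd'N
      rw [← heq]
      exact ⟨hd'C, hd'2, hd'⟩
  obtain ⟨Y, hYinv, hNY, hYne, hYle, hYcard⟩ := Nat.find_spec hex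
  have hmin := fun m (hm : m < Nat.find hex) => Nat.find_min hex hm
  have hYW : ∀ y ∈ Y, y ^ 2 ∈ N ∧ ∀ x : X, y * x * y⁻¹ * x⁻¹ ∈ N := fun y hy => (hYle hy).2
  refine ⟨Y, ?_, hYinv, hNY, hYne, fun y hy => (hYle hy).1, fun y hy => (hYW y hy).2, fun y hy => (hYW y hy).1, ?_⟩
  · constructor
    intro y hy g
    have h1 : g * y * g⁻¹ = (y * g * y⁻¹ * g⁻¹)⁻¹ * y := by group
    rw [h1]
    exact Y.mul_mem (Y.inv_mem (hNY ((hYW y hy).2 g))) hy
  · intro S hSinv hNS hSY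
    by_cases hSN : S = N
    · exact Or.inl hSN
    · right
      apply Subgroup.eq_of_le_of_card_ge hSY
      by_contra hlt
      rw [not_le] at hlt
      rw [hYcard] at hlt
      exact hmin _ hlt ⟨S, hSinv, hNS, hSN, hSY.trans hYle, rfl⟩

end Cfsg.Agent.Lib.Helper12.SC3.PC2
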