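import Cfsg.Agent.Lib.Helper12.SC3.PC2.Defs

/-!
# S1904 farm — PART PC2 sub-farm (architect helper12) — leaf Q04b
Paper proof: `SC3/Blueprint.lean`, Case 2.  Definitions: `SC3/Defs.lean`, `SC3/PC2/Defs.lean`; shared lemmas (G2,G3,G4) in `SC3/G.lean` may be used as black boxes.
Only replace the `sorry`; names / statements / namespace verbatim; aux lemmas with fresh names in sub-namespace `Q04b`.

RECIPE.  Blueprint (2.1).  `K = {y ∈ Y | ∃ m ∈ N, y² = m²}` is a subgroup: for `y, y' ∈ Y`, `(y y')² = y² y'² [y',y]` (`[Y,Y] ≤ N` central in `Y`, since `Y ≤ centralizer N`), and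
`[y',y]² = [y'², y] = 1` so `[y',y] ∈ Om1Z X` (use `c.om`), and every element of `Om1Z X` is a square in `N` (`c.div` with `k = 1`, `n ≥ 2`); squares of `N` form a subgroup.
`K` is `A`-invariant and `N ≤ K ≤ Y`; apply `hY.irr`.
-/

set_option autoImplicit false

namespace Cfsg.Agent.Lib.Helper12.SC3.PC2

variable {X : Type*} [Group X] {A : Subgroup (MulAut X)} {N : Subgroup X} {n : ℕ}

namespace Q04b

/-- elements of `N` of square one are squares in `N` -/
theorem sq_of_sq_one (c : Ctx3 A N n) {k : X} (hk : k ∈ N) (hk2 : k ^ 2 = 1) : ∃ u ∈ N, k = u ^ 2 := by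
  have hn := c.two_le
  obtain ⟨u, hu, h⟩ := c.div 1 (by omega) k hk (by simpa using hk2)
  refine ⟨u ^ (2 ^ (n - 2)), Subgroup.pow_mem _ hu _, ?_⟩
  rw [h, ← pow_mul]
  congr 1
  have : n - 1 = (n - 2) + 1 := by omega
  rw [this, pow_succ]

/-- commutation of `Y` with `N` -/
theorem comm_of_mem {Y : Subgroup X} (hY : YCtx A N Y) {y v : X} (hy : y ∈ Y) (hv : v ∈ N) : v * y = y * v :=
  (Subgroup.mem_centralizer_iff.mp (hY.cent hy)) v hv

/-- the subgroup `K` of the recipe -/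
def K (c : Ctx3 A N n) {Y : Subgroup X} (hY : YCtx A N Y) : Subgroup X where
  carrier := {y | y ∈ Y ∧ ∃ m ∈ N, y ^ 2 = m ^ 2}
  one_mem' := ⟨Subgroup.one_mem _, 1, Subgroup.one_mem _, rfl⟩
  inv_mem' := by
    rintro y ⟨hy, m, hm, h⟩
    exact ⟨Subgroup.inv_mem _ hy, m⁻¹, Subgroup.inv_mem _ hm, by rw [inv_pow, inv_pow, h]⟩
  mul_mem' := by
    rintro y y' ⟨hy, m, hm, h⟩ ⟨hy', m', hm', h'⟩
    refine ⟨Subgroup.mul_mem _ hy hy', ?_⟩
    -- k = [y', y]
    set k := y' * y * y'⁻¹ * y⁻¹ with hkdef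
    have hk : k ∈ N := hY.comm y' hy' y
    have hky : k * y = y * k := comm_of_mem hY hy hk
    have hky' : k * y' = y' * k := comm_of_mem hY hy' hk
    have hyy' : y' * y = k * y * y' := by rw [hkdef]; group
    have hm'y : y' ^ 2 * y = y * y' ^ 2 := by
      rw [h']; exact comm_of_mem hY hy (Subgroup.pow_mem _ hm' 2)
    have hk2 : k ^ 2 = 1 := by
      -- y'^2 y = y' (y' y) = y' k y y' = k y' y y' = k k y y' y' = k^2 y y'^2
      have e : y' ^ 2 * y = k ^ 2 * (y * y' ^ 2) := by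
        calc y' ^ 2 * y = y' * (y' * y) := by rw [pow_two, mul_assoc]
          _ = y' * (k * y * y') := by rw [hyy']
          _ = (y' * k) * y * y' := by simp only [mul_assoc]
          _ = (k * y') * y * y' := by rw [hky']
          _ = k * (y' * y) * y' := by simp only [mul_assoc]
          _ = k * (k * y * y') * y' := by rw [hyy']
          _ = k ^ 2 * (y * y' ^ 2) := by rw [pow_two, pow_two]; simp only [mul_assoc]
      rw [hm'y] at e
      exact (mul_eq_right.mp e.symm)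
    obtain ⟨u, hu, hku⟩ := sq_of_sq_one c hk hk2
    refine ⟨u * m * m', Subgroup.mul_mem _ (Subgroup.mul_mem _ hu hm) hm', ?_⟩
    have hab := c.c.ab
    have e1 : (y * y') ^ 2 = k * y ^ 2 * y' ^ 2 := by
      calc (y * y') ^ 2 = y * (y' * y) * y' := by rw [pow_two]; simp only [mul_assoc]
        _ = y * (k * y * y') * y' := by rw [hyy']
        _ = (y * k) * y * y' * y' := by simp only [mul_assoc]
        _ = (k * y) * y * y' * y' := by rw [hky]
        _ = k * y ^ 2 * y' ^ 2 := by rw [pow_two, pow_two]; simp only [mul_assoc]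
    have e2 : (u * m * m') ^ 2 = u ^ 2 * m ^ 2 * m' ^ 2 := by
      have c1 : Commute u m := hab u hu m hm
      have c2 : Commute (u * m) m' := hab (u * m) (Subgroup.mul_mem _ hu hm) m' hm'
      rw [c2.mul_pow, c1.mul_pow]
    rw [e1, e2, h, h', hku]

theorem mem_K (c : Ctx3 A N n) {Y : Subgroup X} (hY : YCtx A N Y) {y : X} :
    y ∈ K c hY ↔ y ∈ Y ∧ ∃ m ∈ N, y ^ 2 = m ^ 2 := Iff.rfl

end Q04b

theorem Y_dichotomy [Finite X] (c : Ctx3 A N n) {Y : Subgroup X} (hY : YCtx A N Y) :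
    (∀ y ∈ Y, ∃ m ∈ N, y ^ 2 = m ^ 2) ∨ (∀ y ∈ Y, (∃ m ∈ N, y ^ 2 = m ^ 2) → y ∈ N) := by
  have hinv : Inv A (Q04b.K c hY) := by
    rintro φ hφ y ⟨hy, m, hm, h⟩
    refine ⟨hY.inv φ hφ y hy, φ m, c.c.inv φ hφ m hm, ?_⟩
    rw [← map_pow, ← map_pow, h]
  have hle : N ≤ Q04b.K c hY := fun v hv => ⟨hY.le hv, v, hv, rfl⟩
  have hleY : Q04b.K c hY ≤ Y := fun y hy => hy.1
  rcases hY.irr (Q04b.K c hY) hinv hle hleY with h | h
  · right
    intro y hy hm
    have : y ∈ Q04b.K c hY := ⟨hy, hm⟩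
    rwa [h] at this
  · left
    intro y hy
    have : y ∈ Q04b.K c hY := by rw [h]; exact hy
    exact this.2

end Cfsg.Agent.Lib.Helper12.SC3.PC2
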