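import Cfsg.Agent.Lib.Helper12.SC3.PC2.Defs

/-!
# S1904 farm — PART PC2 sub-farm (architect helper12) — leaf Q04c
Paper proof: `SC3/Blueprint.lean`, Case 2.  Definitions: `SC3/Defs.lean`, `SC3/PC2/Defs.lean`; shared lemmas (G2,G3,G4) in `SC3/G.lean` may be used as black boxes.
Only replace the `sorry`; names / statements / namespace verbatim; aux lemmas with fresh names in sub-namespace `Q04c`.

RECIPE.  Blueprint (2.1), case `q = 0`.  Pick `y ∈ Y ∖ N` (`hY.ne`, `hY.le`), `y² = m²`, `u = y m⁻¹`: `u ∉ N`, `u² = 1` (`m` commutes with `y`), `u` centralizes `N`.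
`M = closure ({u} ∪ N)` is abelian, and normal (`g u g⁻¹ = [g,u] u` with `[g,u] ∈ N` by `hY.comm`).  `E = closure ({u} ∪ Om1Z X) ≤ M` has exponent 2 and order 8 (`u ∉ Om1Z X ≤ N`): against `c.c.hyp.rk`.
-/

set_option autoImplicit false

namespace Cfsg.Agent.Lib.Helper12.SC3.PC2

variable {X : Type*} [Group X] {A : Subgroup (MulAut X)} {N : Subgroup X} {n : ℕ}

theorem Y_case_zero [Finite X] (c : Ctx3 A N n) {Y : Subgroup X} (hY : YCtx A N Y)
    (hq : ∀ y ∈ Y, ∃ m ∈ N, y ^ 2 = m ^ 2) : False := by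
  classical
  have hex : ∃ y ∈ Y, y ∉ N := by
    by_contra hcon
    apply hY.ne
    refine le_antisymm (fun y hy => ?_) hY.le
    by_contra hyN
    exact hcon ⟨y, hy, hyN⟩
  obtain ⟨y, hyY, hyN⟩ := hex
  obtain ⟨m, hmN, hym⟩ := hq y hyY
  have hcentY : ∀ w ∈ Y, ∀ v ∈ N, v * w = w * v := fun w hw v hv =>
    Subgroup.mem_centralizer_iff.mp (hY.cent hw) v hv
  obtain ⟨u, hu⟩ : ∃ u, u = y * m⁻¹ := ⟨_, rfl⟩
  have huY : u ∈ Y := by
    rw [hu]
    exact Y.mul_mem hyY (Y.inv_mem (hY.le hmN))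
  have huN : u ∉ N := by
    intro h
    apply hyN
    have h1 : y = u * m := by
      rw [hu]
      group
    rw [h1]
    exact N.mul_mem h hmN
  have hu2 : u ^ 2 = 1 := by
    have h1 : m⁻¹ * y = y * m⁻¹ := hcentY y hyY m⁻¹ (N.inv_mem hmN)
    rw [hu, pow_two]
    calc y * m⁻¹ * (y * m⁻¹) = y * (m⁻¹ * y) * m⁻¹ := by group
      _ = y * (y * m⁻¹) * m⁻¹ := by rw [h1]
      _ = y ^ 2 * (m ^ 2)⁻¹ := by
        rw [pow_two, pow_two, mul_inv_rev]
        simp only [mul_assoc]
      _ = 1 := by rw [hym, mul_inv_cancel]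
  have huc : ∀ v ∈ N, v * u = u * v := hcentY u huY
  have hS : ∀ a ∈ ((N : Set X) ∪ {u}), ∀ b ∈ ((N : Set X) ∪ {u}), a * b = b * a := by
    rintro a (ha | ha) b (hb | hb)
    · exact c.c.ab a ha b hb
    · rw [Set.mem_singleton_iff.mp hb]
      exact huc a ha
    · rw [Set.mem_singleton_iff.mp ha]
      exact (huc b hb).symm
    · rw [Set.mem_singleton_iff.mp ha, Set.mem_singleton_iff.mp hb]
  have hMab : Ab (Subgroup.closure ((N : Set X) ∪ {u})) := by
    intro a ha b hb
    have h1 := (Subgroup.isMulCommutative_closure hS).is_comm.comm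
      (⟨a, ha⟩ : Subgroup.closure ((N : Set X) ∪ {u})) ⟨b, hb⟩
    exact congrArg Subtype.val h1
  have hNM : N ≤ Subgroup.closure ((N : Set X) ∪ {u}) :=
    fun v hv => Subgroup.subset_closure (Or.inl hv)
  have huM : u ∈ Subgroup.closure ((N : Set X) ∪ {u}) := Subgroup.subset_closure (Or.inr rfl)
  have hMn : (Subgroup.closure ((N : Set X) ∪ {u})).Normal := by
    constructor
    intro x hx g
    induction hx using Subgroup.closure_induction with
    | mem x hx =>
      rcases hx with hx | hx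
      · exact hNM (c.c.nN.conj_mem x hx g)
      · rw [Set.mem_singleton_iff.mp hx]
        have h1 : u * g * u⁻¹ * g⁻¹ ∈ N := hY.comm u huY g
        have h2 : g * u * g⁻¹ = (u * g * u⁻¹ * g⁻¹)⁻¹ * u := by group
        rw [h2]
        exact Subgroup.mul_mem _ (hNM (N.inv_mem h1)) huM
    | one =>
      rw [mul_one, mul_inv_cancel]
      exact Subgroup.one_mem _
    | mul x y _ _ hx hy =>
      have h3 : g * (x * y) * g⁻¹ = (g * x * g⁻¹) * (g * y * g⁻¹) := by group
      rw [h3]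
      exact Subgroup.mul_mem _ hx hy
    | inv x _ hx =>
      have h3 : g * x⁻¹ * g⁻¹ = (g * x * g⁻¹)⁻¹ := by group
      rw [h3]
      exact Subgroup.inv_mem _ hx
  have hEM : Subgroup.closure ((Om1Z X : Set X) ∪ {u}) ≤ Subgroup.closure ((N : Set X) ∪ {u}) :=
    Subgroup.closure_mono (Set.union_subset_union_left _ (SetLike.coe_subset_coe.mpr c.RN))
  have hE2 : ∀ e ∈ Subgroup.closure ((Om1Z X : Set X) ∪ {u}), e ^ 2 = 1 := by
    intro e he
    induction he using Subgroup.closure_induction with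
    | mem x hx =>
      rcases hx with hx | hx
      · exact hx.2
      · rw [Set.mem_singleton_iff.mp hx]
        exact hu2
    | one => exact one_pow 2
    | mul x y hx hy hx2 hy2 =>
      have hc : Commute x y := hMab x (hEM hx) y (hEM hy)
      rw [hc.mul_pow, hx2, hy2, one_mul]
    | inv x _ hx2 => rw [inv_pow, hx2, inv_one]
  have hcard := c.c.hyp.rk _ hMn hMab _ hEM hE2
  have hRE : Om1Z X ≤ Subgroup.closure ((Om1Z X : Set X) ∪ {u}) :=
    fun v hv => Subgroup.subset_closure (Or.inl hv)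
  have huE : u ∈ Subgroup.closure ((Om1Z X : Set X) ∪ {u}) := Subgroup.subset_closure (Or.inr rfl)
  have hREeq : Om1Z X = Subgroup.closure ((Om1Z X : Set X) ∪ {u}) :=
    Subgroup.eq_of_le_of_card_ge hRE (by rw [c.R4]; exact hcard)
  exact huN (c.RN (hREeq ▸ huE))

end Cfsg.Agent.Lib.Helper12.SC3.PC2
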