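import Cfsg.Agent.Lib.Helper12.SC3.PC2.Defs

/-!
# S1904 farm — PART PC2 sub-farm (architect helper12) — leaf Q04d
Paper proof: `SC3/Blueprint.lean`, Case 2.  Definitions: `SC3/Defs.lean`, `SC3/PC2/Defs.lean`; shared lemmas (G2,G3,G4) in `SC3/G.lean` may be used as black boxes.
Only replace the `sorry`; names / statements / namespace verbatim; aux lemmas with fresh names in sub-namespace `Q04d`.

RECIPE.  Blueprint (2.1), case `q` injective.  The centre of `Y` is `A`-invariant, contains `N`; if it were `Y`, then `Y` is an `A`-invariant normal abelian subgroup `> N`: against `c.c.max`; so (`hY.irr`) the centre of `Y` is `N`.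
`y ↦ y² (mod squares of N)` is an injective homomorphism from `Y/N` into `N/{squares}`, which has order 4 (`= |Ω₁(N)|`): so `|Y : N| ≤ 4`.  `|Y:N| = 2`: `Y = ⟨y⟩N` abelian, no.
`|Y:N| = 4`: `Y = ⟨y,y'⟩N`, every commutator of `Y` is a power of `[y,y']` (class 2, `N` central in `Y`), and `[y,y']² = 1`: the commutators of `Y` form a subgroup `{1,[y,y']}` of order 2 of `Om1Z X`;
it is `A`-invariant and nontrivial: against `c.irr` (`|Om1Z X| = 4`).
-/

set_option autoImplicit false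

namespace Cfsg.Agent.Lib.Helper12.SC3.PC2

variable {X : Type*} [Group X] {A : Subgroup (MulAut X)} {N : Subgroup X} {n : ℕ}

theorem Y_case_inj [Finite X] (c : Ctx3 A N n) {Y : Subgroup X} (hY : YCtx A N Y)
    (hq : ∀ y ∈ Y, (∃ m ∈ N, y ^ 2 = m ^ 2) → y ∈ N) : False := by
  classical
  obtain ⟨j, rfl⟩ : ∃ j, n = j + 2 := ⟨n - 2, by have := c.two_le; omega⟩
  -- N is central in Y
  have hcen : ∀ m ∈ N, ∀ u ∈ Y, u * m = m * u := by
    intro m hm u hu
    exact ((Subgroup.mem_centralizer_iff.1 (hY.cent hu)) m hm).symm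
  -- Y is not abelian
  have hnab : ∃ y ∈ Y, ∃ y' ∈ Y, y * y' ≠ y' * y := by
    by_contra hcon
    simp only [not_exists, not_and, not_not] at hcon
    have hab : Ab Y := fun a ha b hb => hcon a ha b hb
    exact hY.ne (c.c.max Y hY.nY hY.inv hab hY.le)
  obtain ⟨y, hy, y', hy', hyy'⟩ := hnab
  have hkN : ∀ u ∈ Y, ∀ v : X, u * v * u⁻¹ * v⁻¹ ∈ N := hY.comm
  -- commutators square to one
  have hk2 : ∀ u ∈ Y, ∀ v ∈ Y, (u * v * u⁻¹ * v⁻¹) ^ 2 = 1 := by
    intro u hu v hv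
    obtain ⟨k, hk⟩ : ∃ k, k = u * v * u⁻¹ * v⁻¹ := ⟨_, rfl⟩
    rw [← hk]
    have hkN' : k ∈ N := by rw [hk]; exact hkN u hu v
    have hku : u * k = k * u := hcen k hkN' u hu
    have hu2 : u ^ 2 ∈ N := hY.sq u hu
    have hu2v : v * u ^ 2 = u ^ 2 * v := hcen _ hu2 v hv
    have h1 : u * v * u⁻¹ = k * v := by rw [hk]; group
    have h2 : u ^ 2 * v * (u ^ 2)⁻¹ = k ^ 2 * v := by
      calc u ^ 2 * v * (u ^ 2)⁻¹ = u * (u * v * u⁻¹) * u⁻¹ := by simp only [pow_two]; group
        _ = u * (k * v) * u⁻¹ := by rw [h1]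
        _ = (u * k) * v * u⁻¹ := by group
        _ = (k * u) * v * u⁻¹ := by rw [hku]
        _ = k * (u * v * u⁻¹) := by group
        _ = k * (k * v) := by rw [h1]
        _ = k ^ 2 * v := by simp only [pow_two]; group
    have h3 : u ^ 2 * v * (u ^ 2)⁻¹ = v := by
      rw [← hu2v]; simp only [pow_two]; group
    have h4 : k ^ 2 * v = 1 * v := by rw [← h2, h3, one_mul]
    exact mul_right_cancel h4
  -- sigma u = u ^ (2 ^ (j+2)) = (u^2) ^ (2 ^ (j+1))
  have e1 : ∀ w : X, w ^ (2 ^ (j + 2)) = (w ^ 2) ^ (2 ^ (j + 1)) := fun w => by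
    rw [← pow_mul, show 2 * 2 ^ (j + 1) = 2 ^ (j + 2) by ring]
  have hσR : ∀ u ∈ Y, u ^ (2 ^ (j + 2)) ∈ Om1Z X := by
    intro u hu
    have hu2 := hY.sq u hu
    have hN : u ^ (2 ^ (j + 2)) ∈ N := by rw [e1]; exact N.pow_mem hu2 _
    apply c.om _ hN
    rw [← pow_mul, mul_comm, pow_mul]
    exact c.exp _ hu2
  have hσmul : ∀ u ∈ Y, ∀ v ∈ Y,
      (u * v) ^ (2 ^ (j + 2)) = u ^ (2 ^ (j + 2)) * v ^ (2 ^ (j + 2)) := by
    intro u hu v hv
    obtain ⟨k', hk'⟩ : ∃ k', k' = v * u * v⁻¹ * u⁻¹ := ⟨_, rfl⟩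
    have hk'N : k' ∈ N := by rw [hk']; exact hkN v hv u
    have hk'2 : k' ^ 2 = 1 := by rw [hk']; exact hk2 v hv u hu
    have hu2 := hY.sq u hu
    have hv2 := hY.sq v hv
    have hk'u : u * k' = k' * u := hcen k' hk'N u hu
    have h1 : (u * v) ^ 2 = k' * (u ^ 2 * v ^ 2) := by
      calc (u * v) ^ 2 = u * (v * u * v⁻¹ * u⁻¹) * u * v * v := by simp only [pow_two]; group
        _ = (u * k') * u * v * v := by rw [← hk']
        _ = (k' * u) * u * v * v := by rw [hk'u]
        _ = k' * (u ^ 2 * v ^ 2) := by simp only [pow_two]; group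
    rw [e1 (u * v), e1 u, e1 v, h1]
    have c1 : Commute k' (u ^ 2 * v ^ 2) := c.c.ab k' hk'N _ (N.mul_mem hu2 hv2)
    have c2 : Commute (u ^ 2) (v ^ 2) := c.c.ab _ hu2 _ hv2
    rw [c1.mul_pow, c2.mul_pow]
    have h5 : k' ^ (2 ^ (j + 1)) = 1 := by rw [pow_succ', pow_mul, hk'2, one_pow]
    rw [h5, one_mul]
  have hker : ∀ u ∈ Y, u ^ (2 ^ (j + 2)) = 1 → u ∈ N := by
    intro u hu h1
    have hu2 := hY.sq u hu
    rw [e1] at h1
    obtain ⟨m, hm, hm2⟩ := c.div (j + 1) (by omega) (u ^ 2) hu2 h1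
    apply hq u hu
    refine ⟨m, hm, ?_⟩
    rw [hm2]
    have h6 : j + 2 - (j + 1) = 1 := by omega
    rw [h6, pow_one]
  have hcoset : ∀ u ∈ Y, ∀ w ∈ Y, u ^ (2 ^ (j + 2)) = w ^ (2 ^ (j + 2)) → u * w⁻¹ ∈ N := by
    intro u hu w hw h
    apply hker _ (Y.mul_mem hu (Y.inv_mem hw))
    rw [hσmul u hu _ (Y.inv_mem hw), inv_pow, h, mul_inv_cancel]
  -- a = sigma y, b = sigma y'
  obtain ⟨a, ha⟩ : ∃ a, a = y ^ (2 ^ (j + 2)) := ⟨_, rfl⟩
  obtain ⟨b, hb⟩ : ∃ b, b = y' ^ (2 ^ (j + 2)) := ⟨_, rfl⟩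
  have haR : a ∈ Om1Z X := by rw [ha]; exact hσR y hy
  have hbR : b ∈ Om1Z X := by rw [hb]; exact hσR y' hy'
  have ha1 : a ≠ 1 := by
    intro h
    have h7 : y ∈ N := hker y hy (by rw [← ha]; exact h)
    exact hyy' (hcen y h7 y' hy').symm
  have hb1 : b ≠ 1 := by
    intro h
    have h7 : y' ∈ N := hker y' hy' (by rw [← hb]; exact h)
    exact hyy' (hcen y' h7 y hy)
  have hab : a ≠ b := by
    intro h
    have hm : y * y'⁻¹ ∈ N := hcoset y hy y' hy' (by rw [← ha, ← hb]; exact h)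
    apply hyy'
    have h1 := hcen _ hm y' hy'
    calc y * y' = (y * y'⁻¹) * y' * y' := by group
      _ = (y' * (y * y'⁻¹)) * y' := by rw [h1]
      _ = y' * y := by group
  have ha2 : a ^ 2 = 1 := (mem_Om1Z.1 haR).2
  have hb2 : b ^ 2 = 1 := (mem_Om1Z.1 hbR).2
  have hbinv : b⁻¹ = b := by
    have : b * b = b * b⁻¹ := by rw [← pow_two, hb2, mul_inv_cancel]
    exact (mul_left_cancel this).symm
  -- Om1Z X = {1, a, b, a*b}
  have hRset : ∀ r ∈ Om1Z X, r = 1 ∨ r = a ∨ r = b ∨ r = a * b := by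
    have hsub : ((({1, a, b, a * b} : Finset X) : Set X)) ⊆ ((Om1Z X : Subgroup X) : Set X) := by
      intro r hr
      simp only [Finset.coe_insert, Finset.coe_singleton, Set.mem_insert_iff,
        Set.mem_singleton_iff] at hr
      rcases hr with rfl | rfl | rfl | rfl
      · exact (Om1Z X).one_mem
      · exact haR
      · exact hbR
      · exact (Om1Z X).mul_mem haR hbR
    have hcard : ({1, a, b, a * b} : Finset X).card = 4 := by
      have h1a : (1 : X) ≠ a := fun h => ha1 h.symm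
      have h1b : (1 : X) ≠ b := fun h => hb1 h.symm
      have h1ab : (1 : X) ≠ a * b := by
        intro h
        apply hab
        calc a = (a * b) * b⁻¹ := by group
          _ = b⁻¹ := by rw [← h, one_mul]
          _ = b := hbinv
      have haab : a ≠ a * b := by
        intro h
        apply hb1
        have : a * 1 = a * b := by rw [mul_one]; exact h
        exact (mul_left_cancel this).symm
      have hbab : b ≠ a * b := by
        intro h
        apply ha1
        have : 1 * b = a * b := by rw [one_mul]; exact h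
        exact (mul_right_cancel this).symm
      rw [Finset.card_insert_of_notMem, Finset.card_insert_of_notMem, Finset.card_insert_of_notMem,
        Finset.card_singleton]
      · simp only [Finset.mem_singleton]; exact hbab
      · simp only [Finset.mem_insert, Finset.mem_singleton, not_or]; exact ⟨hab, haab⟩
      · simp only [Finset.mem_insert, Finset.mem_singleton, not_or]; exact ⟨h1a, h1b, h1ab⟩
    have hle : ((Om1Z X : Subgroup X) : Set X).ncard ≤ ((({1, a, b, a * b} : Finset X) : Set X)).ncard := by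
      rw [Set.ncard_coe_finset, hcard]
      have h4 : Nat.card ↥(Om1Z X) = 4 := c.R4
      have h5 : Nat.card ↥(Om1Z X) = ((Om1Z X : Subgroup X) : Set X).ncard := rfl
      omega
    have hEq := Set.eq_of_subset_of_ncard_le hsub hle
    intro r hr
    have hr' : r ∈ ((({1, a, b, a * b} : Finset X) : Set X)) := by rw [hEq]; exact hr
    simpa only [Finset.coe_insert, Finset.coe_singleton, Set.mem_insert_iff,
      Set.mem_singleton_iff] using hr'
  -- decomposition of Y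
  have hdec : ∀ u ∈ Y, ∃ m ∈ N, ∃ w : X, (w = 1 ∨ w = y ∨ w = y' ∨ w = y * y') ∧ u = m * w := by
    intro u hu
    rcases hRset _ (hσR u hu) with h | h | h | h
    · exact ⟨u, hker u hu h, 1, Or.inl rfl, (mul_one u).symm⟩
    · refine ⟨u * y⁻¹, hcoset u hu y hy (by rw [h, ha]), y, Or.inr (Or.inl rfl), by group⟩
    · refine ⟨u * y'⁻¹, hcoset u hu y' hy' (by rw [h, hb]), y', Or.inr (Or.inr (Or.inl rfl)), by group⟩
    · refine ⟨u * (y * y')⁻¹, hcoset u hu (y * y') (Y.mul_mem hy hy') ?_, y * y',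
        Or.inr (Or.inr (Or.inr rfl)), by group⟩
      rw [h, ha, hb, hσmul y hy y' hy']
  -- t = [y, y']
  obtain ⟨t, ht⟩ : ∃ t, t = y * y' * y⁻¹ * y'⁻¹ := ⟨_, rfl⟩
  have htN : t ∈ N := by rw [ht]; exact hkN y hy y'
  have ht1 : t ≠ 1 := by
    intro h
    apply hyy'
    calc y * y' = (y * y' * y⁻¹ * y'⁻¹) * y' * y := by group
      _ = y' * y := by rw [← ht, h, one_mul]
  have ht2 : t ^ 2 = 1 := by rw [ht]; exact hk2 y hy y' hy'
  have htinv : t⁻¹ = t := by
    have : t * t = t * t⁻¹ := by rw [← pow_two, ht2, mul_inv_cancel]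
    exact (mul_left_cancel this).symm
  have htR : t ∈ Om1Z X := c.om t htN ht2
  have hty : y * t = t * y := hcen t htN y hy
  -- commutators of the four coset representatives
  have K : ∀ w w' : X, (w = 1 ∨ w = y ∨ w = y' ∨ w = y * y') →
      (w' = 1 ∨ w' = y ∨ w' = y' ∨ w' = y * y') →
      (w * w' * w⁻¹ * w'⁻¹ = 1 ∨ w * w' * w⁻¹ * w'⁻¹ = t) := by
    have hconj : y * t * y⁻¹ = t := by rw [hty]; group
    rintro w w' hw hw'
    rcases hw with h | h | h | h <;> rcases hw' with h' | h' | h' | h' <;> rw [h, h']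
    · left; group
    · left; group
    · left; group
    · left; group
    · left; group
    · left; group
    · right; exact ht.symm
    · right
      calc y * (y * y') * y⁻¹ * (y * y')⁻¹ = y * (y * y' * y⁻¹ * y'⁻¹) * y⁻¹ := by group
        _ = y * t * y⁻¹ := by rw [← ht]
        _ = t := hconj
    · left; group
    · right
      calc y' * y * y'⁻¹ * y⁻¹ = (y * y' * y⁻¹ * y'⁻¹)⁻¹ := by group
        _ = t⁻¹ := by rw [← ht]
        _ = t := htinv
    · left; group
    · right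
      calc y' * (y * y') * y'⁻¹ * (y * y')⁻¹ = (y * y' * y⁻¹ * y'⁻¹)⁻¹ := by group
        _ = t⁻¹ := by rw [← ht]
        _ = t := htinv
    · left; group
    · right
      calc y * y' * y * (y * y')⁻¹ * y⁻¹ = y * (y * y' * y⁻¹ * y'⁻¹)⁻¹ * y⁻¹ := by group
        _ = y * t⁻¹ * y⁻¹ := by rw [← ht]
        _ = y * t * y⁻¹ := by rw [htinv]
        _ = t := hconj
    · right
      calc y * y' * y' * (y * y')⁻¹ * y'⁻¹ = y * y' * y⁻¹ * y'⁻¹ := by group
        _ = t := ht.symm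
    · left; group
  -- all commutators of Y
  have hkall : ∀ u ∈ Y, ∀ v ∈ Y, u * v * u⁻¹ * v⁻¹ = 1 ∨ u * v * u⁻¹ * v⁻¹ = t := by
    intro u hu v hv
    obtain ⟨m, hm, w, hw, rfl⟩ := hdec u hu
    obtain ⟨m', hm', w', hw', rfl⟩ := hdec v hv
    have hwY : w ∈ Y := by
      rcases hw with h | h | h | h <;> rw [h]
      · exact Y.one_mem
      · exact hy
      · exact hy'
      · exact Y.mul_mem hy hy'
    have hw'Y : w' ∈ Y := by
      rcases hw' with h | h | h | h <;> rw [h]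
      · exact Y.one_mem
      · exact hy
      · exact hy'
      · exact Y.mul_mem hy hy'
    have hred : (m * w) * (m' * w') * (m * w)⁻¹ * (m' * w')⁻¹ = w * w' * w⁻¹ * w'⁻¹ := by
      have h1 : w * m' = m' * w := hcen m' hm' w hwY
      have h2 : (w * w' * w⁻¹) * m = m * (w * w' * w⁻¹) :=
        hcen m hm _ (Y.mul_mem (Y.mul_mem hwY hw'Y) (Y.inv_mem hwY))
      have h3 : (w * w' * w⁻¹ * w'⁻¹) * m' = m' * (w * w' * w⁻¹ * w'⁻¹) :=
        hcen m' hm' _ (Y.mul_mem (Y.mul_mem (Y.mul_mem hwY hw'Y) (Y.inv_mem hwY)) (Y.inv_mem hw'Y))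
      calc (m * w) * (m' * w') * (m * w)⁻¹ * (m' * w')⁻¹
          = m * (w * m') * w' * w⁻¹ * m⁻¹ * w'⁻¹ * m'⁻¹ := by group
        _ = m * (m' * w) * w' * w⁻¹ * m⁻¹ * w'⁻¹ * m'⁻¹ := by rw [h1]
        _ = m * m' * ((w * w' * w⁻¹) * m) * m⁻¹ * m⁻¹ * w'⁻¹ * m'⁻¹ := by group
        _ = m * m' * (m * (w * w' * w⁻¹)) * m⁻¹ * m⁻¹ * w'⁻¹ * m'⁻¹ := by rw [h2]
        _ = m * m' * m * (w * w' * w⁻¹) * m⁻¹ * m⁻¹ * w'⁻¹ * m'⁻¹ := by group
        _ = w * w' * w⁻¹ * w'⁻¹ := by
          have h4 : (w * w' * w⁻¹) * m⁻¹ = m⁻¹ * (w * w' * w⁻¹) :=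
            hcen m⁻¹ (N.inv_mem hm) _ (Y.mul_mem (Y.mul_mem hwY hw'Y) (Y.inv_mem hwY))
          have h5 : m * m' = m' * m := c.c.ab m hm m' hm'
          calc m * m' * m * (w * w' * w⁻¹) * m⁻¹ * m⁻¹ * w'⁻¹ * m'⁻¹
              = m * m' * m * ((w * w' * w⁻¹) * m⁻¹) * m⁻¹ * w'⁻¹ * m'⁻¹ := by group
            _ = m * m' * m * (m⁻¹ * (w * w' * w⁻¹)) * m⁻¹ * w'⁻¹ * m'⁻¹ := by rw [h4]
            _ = m * m' * ((w * w' * w⁻¹) * m⁻¹) * w'⁻¹ * m'⁻¹ := by group
            _ = m * m' * (m⁻¹ * (w * w' * w⁻¹)) * w'⁻¹ * m'⁻¹ := by rw [h4]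
            _ = (m * m') * m⁻¹ * (w * w' * w⁻¹ * w'⁻¹) * m'⁻¹ := by group
            _ = (m' * m) * m⁻¹ * (w * w' * w⁻¹ * w'⁻¹) * m'⁻¹ := by rw [h5]
            _ = m' * (w * w' * w⁻¹ * w'⁻¹) * m'⁻¹ := by group
            _ = ((w * w' * w⁻¹ * w'⁻¹) * m') * m'⁻¹ := by rw [h3]
            _ = w * w' * w⁻¹ * w'⁻¹ := by group
    rw [hred]
    exact K w w' hw hw'
  -- the A-invariant subgroup {1, t}
  let S : Subgroup X :=
    { carrier := {x | x = 1 ∨ x = t}
      one_mem' := Or.inl rfl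
      mul_mem' := by
        rintro x z hx hz
        rcases hx with h | h <;> rcases hz with h' | h' <;> rw [h, h']
        · left; group
        · right; group
        · right; group
        · left; rw [← pow_two, ht2]
      inv_mem' := by
        rintro x hx
        rcases hx with h | h <;> rw [h]
        · left; group
        · right; exact htinv }
  have hSmem : ∀ x : X, x ∈ S ↔ (x = 1 ∨ x = t) := fun x => Iff.rfl
  have hSR : S ≤ Om1Z X := by
    intro x hx
    rcases (hSmem x).1 hx with h | h <;> rw [h]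
    · exact (Om1Z X).one_mem
    · exact htR
  have hSinv : Inv A S := by
    intro φ hφ x hx
    rcases (hSmem x).1 hx with h | h <;> rw [h]
    · rw [map_one]; exact S.one_mem
    · have hφy : φ y ∈ Y := hY.inv φ hφ y hy
      have hφy' : φ y' ∈ Y := hY.inv φ hφ y' hy'
      have e : φ t = φ y * φ y' * (φ y)⁻¹ * (φ y')⁻¹ := by
        rw [ht, map_mul, map_mul, map_mul, map_inv, map_inv]
      rw [e]
      exact (hSmem _).2 (hkall _ hφy _ hφy')
  rcases c.irr S hSR hSinv with hS | hS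
  · have : t ∈ S := (hSmem t).2 (Or.inr rfl)
    rw [hS, Subgroup.mem_bot] at this
    exact ht1 this
  · have haS : a ∈ S := by rw [hS]; exact haR
    have hbS : b ∈ S := by rw [hS]; exact hbR
    rcases (hSmem a).1 haS with h | h
    · exact ha1 h
    · rcases (hSmem b).1 hbS with h' | h'
      · exact hb1 h'
      · exact hab (h.trans h'.symm)

end Cfsg.Agent.Lib.Helper12.SC3.PC2
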