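import Cfsg.Agent.Lib.Helper12.SC3.PC2.Defs
import Cfsg.Agent.Lib.Helper1.Nilpotent

/-!
# S1904 farm — PART PC2 sub-farm (architect helper12) — leaf Q05
Paper proof: `SC3/Blueprint.lean`, Case 2.  Definitions: `SC3/Defs.lean`, `SC3/PC2/Defs.lean`; shared lemmas (G2,G3,G4) in `SC3/G.lean` may be used as black boxes.
Only replace the `sorry`; names / statements / namespace verbatim; aux lemmas with fresh names in sub-namespace `Q05`.

RECIPE.  Blueprint (2.2).  `X` acts by conjugation on the 3 nontrivial cosets of `N` modulo its squares (`|N : squares| = 4`); a 2-group acting on 3 points fixes one: some `v₀ ∈ N`, not a square, with `Ec x v₀` a square for all `x`.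
`S = {v ∈ N | ∀ x, Ec x v is a square in N}` is a subgroup (`Ec x (v v') = Ec x v * Ec x v'` on the abelian normal `N`), `A`-invariant (`φ (Ec x v) = Ec (φ x) (φ v)`), contains the squares and `v₀`: `irr_top` (`Q05a`, hypothesis `hirr`) gives `S = N`.
-/

set_option autoImplicit false

namespace Cfsg.Agent.Lib.Helper12.SC3.PC2

variable {X : Type*} [Group X] {A : Subgroup (MulAut X)} {N : Subgroup X} {n : ℕ}

namespace Q05

/-- the subgroup of squares of an abelian subgroup -/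
def sqSub (N : Subgroup X) (hab : Ab N) : Subgroup X where
  carrier := {s | ∃ m ∈ N, s = m ^ 2}
  one_mem' := ⟨1, N.one_mem, by simp⟩
  mul_mem' := by
    rintro a b ⟨m, hm, rfl⟩ ⟨k, hk, rfl⟩
    refine ⟨m * k, N.mul_mem hm hk, ?_⟩
    have hc : Commute m k := hab m hm k hk
    rw [hc.mul_pow]
  inv_mem' := by
    rintro a ⟨m, hm, rfl⟩
    exact ⟨m⁻¹, N.inv_mem hm, by rw [inv_pow]⟩

theorem mem_sqSub {N : Subgroup X} {hab : Ab N} {s : X} :
    s ∈ sqSub N hab ↔ ∃ m ∈ N, s = m ^ 2 := Iff.rfl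

theorem sqSub_normal (N : Subgroup X) (hab : Ab N) (hN : N.Normal) : (sqSub N hab).Normal := by
  constructor
  rintro s ⟨m, hm, rfl⟩ g
  refine ⟨g * m * g⁻¹, hN.conj_mem m hm g, ?_⟩
  rw [conj_pow]

theorem Ec_sq (hN : N.Normal) (hab : Ab N) {m : X} (hm : m ∈ N) (x : X) :
    Ec x (m ^ 2) = (Ec x m) ^ 2 := by
  have h1 : x⁻¹ * m * x ∈ N := by
    have := hN.conj_mem m hm x⁻¹
    simpa using this
  have hc : Commute m⁻¹ (x⁻¹ * m * x) := hab _ (N.inv_mem hm) _ h1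
  have e1 : Ec x m = m⁻¹ * (x⁻¹ * m * x) := by unfold Ec; group
  have e2 : Ec x (m ^ 2) = (m⁻¹ * m⁻¹) * ((x⁻¹ * m * x) * (x⁻¹ * m * x)) := by
    unfold Ec
    simp only [pow_two, mul_inv_rev, mul_assoc, mul_inv_cancel_left]
  rw [e1, e2, hc.mul_pow, pow_two, pow_two]

theorem Ec_mem (hN : N.Normal) {v : X} (hv : v ∈ N) (x : X) : Ec x v ∈ N := by
  have h1 : x⁻¹ * v * x ∈ N := by
    have := hN.conj_mem v hv x⁻¹
    simpa using this
  have e1 : Ec x v = v⁻¹ * (x⁻¹ * v * x) := by unfold Ec; group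
  rw [e1]
  exact N.mul_mem (N.inv_mem hv) h1

theorem mk_mem_center_iff (K : Subgroup X) [K.Normal] (v : X) :
    ((v : X) : X ⧸ K) ∈ Subgroup.center (X ⧸ K) ↔ ∀ x : X, Ec x v ∈ K := by
  rw [Subgroup.mem_center_iff]
  have e : ∀ x : X, Ec x v = (x * v)⁻¹ * (v * x) := by
    intro x; unfold Ec; group
  constructor
  · intro h x
    have h1 := h (x : X ⧸ K)
    rw [← QuotientGroup.mk_mul, ← QuotientGroup.mk_mul] at h1
    have h2 := QuotientGroup.eq.mp h1
    rw [e x]; exact h2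
  · intro h g
    induction g using QuotientGroup.induction_on with
    | H x =>
      rw [← QuotientGroup.mk_mul, ← QuotientGroup.mk_mul]
      apply QuotientGroup.eq.mpr
      rw [← e x]; exact h x

end Q05

theorem comm_mem_sq [Finite X] (c : Ctx3 A N n)
    (hirr : ∀ S : Subgroup X, Inv A S → (∀ v ∈ N, v ^ 2 ∈ S) → S ≤ N → (∀ s ∈ S, ∃ m ∈ N, s = m ^ 2) ∨ S = N) :
    ∀ x : X, ∀ v ∈ N, ∃ m ∈ N, Ec x v = m ^ 2 := by
  have hab := c.c.ab
  have hN := c.c.nN
  have hKn : (Q05.sqSub N hab).Normal := Q05.sqSub_normal N hab hN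
  -- some element of `N` is not a square
  have hns : ¬ N ≤ Q05.sqSub N hab := by
    intro hle
    have hsurj : Function.Surjective (fun v : N => (⟨(v : X) ^ 2, N.pow_mem v.2 2⟩ : N)) := by
      rintro ⟨w, hw⟩
      obtain ⟨m, hm, rfl⟩ := hle hw
      exact ⟨⟨m, hm⟩, rfl⟩
    have hinj := (Finite.injective_iff_surjective).mpr hsurj
    have hR : Om1Z X ≠ ⊥ := by
      intro h
      have h4 := c.R4
      rw [h, Subgroup.card_bot] at h4
      omega
    obtain ⟨⟨z, hz⟩, hz1⟩ := (Subgroup.ne_bot_iff_exists_ne_one).mp hR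
    have hzN : z ∈ N := c.RN hz
    have hz2 : z ^ 2 = 1 := (mem_Om1Z.mp hz).2
    have := @hinj ⟨z, hzN⟩ ⟨1, N.one_mem⟩ (by
      apply Subtype.ext
      show z ^ 2 = (1 : X) ^ 2
      rw [hz2, one_pow])
    have hz' : z = 1 := congrArg Subtype.val this
    apply hz1
    apply Subtype.ext
    exact hz'
  have : Fact (Nat.Prime 2) := ⟨Nat.prime_two⟩
  have hQ : IsPGroup 2 (X ⧸ Q05.sqSub N hab) := c.c.hyp.two.to_quotient _
  have : Group.IsNilpotent (X ⧸ Q05.sqSub N hab) := hQ.isNilpotent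
  have hmap_ne : N.map (QuotientGroup.mk' (Q05.sqSub N hab)) ≠ ⊥ := by
    intro h
    apply hns
    intro v hv
    have : QuotientGroup.mk' (Q05.sqSub N hab) v ∈ N.map (QuotientGroup.mk' (Q05.sqSub N hab)) :=
      Subgroup.mem_map_of_mem _ hv
    rw [h, Subgroup.mem_bot] at this
    exact (QuotientGroup.eq_one_iff v).mp this
  have : (N.map (QuotientGroup.mk' (Q05.sqSub N hab))).Normal :=
    hN.map _ (QuotientGroup.mk'_surjective _)
  have h1 := Cfsg.Agent.Lib.Helper1.inf_center_ne_bot_of_normal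
    (N.map (QuotientGroup.mk' (Q05.sqSub N hab))) hmap_ne
  obtain ⟨⟨q, hq⟩, hq1⟩ := (Subgroup.ne_bot_iff_exists_ne_one).mp h1
  obtain ⟨hqN, hqZ⟩ := Subgroup.mem_inf.mp hq
  obtain ⟨v₀, hv₀, rfl⟩ := hqN
  have hS_mem : ∀ v, v ∈ N ⊓ (Subgroup.center (X ⧸ Q05.sqSub N hab)).comap
      (QuotientGroup.mk' (Q05.sqSub N hab)) ↔ v ∈ N ∧ ∀ x, Ec x v ∈ Q05.sqSub N hab := by
    intro v
    rw [Subgroup.mem_inf, Subgroup.mem_comap]
    exact and_congr Iff.rfl (Q05.mk_mem_center_iff _ v)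
  have hSinv : Inv A (N ⊓ (Subgroup.center (X ⧸ Q05.sqSub N hab)).comap
      (QuotientGroup.mk' (Q05.sqSub N hab))) := by
    intro φ hφ v hv
    rw [hS_mem] at hv ⊢
    refine ⟨c.c.inv φ hφ v hv.1, fun x => ?_⟩
    obtain ⟨m, hm, hm2⟩ := hv.2 (φ⁻¹ x)
    refine ⟨φ m, c.c.inv φ hφ m hm, ?_⟩
    have : Ec x (φ v) = φ (Ec (φ⁻¹ x) v) := by
      unfold Ec
      simp [map_mul, map_inv]
    rw [this, hm2, map_pow]
  have hSsq : ∀ v ∈ N, v ^ 2 ∈ N ⊓ (Subgroup.center (X ⧸ Q05.sqSub N hab)).comap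
      (QuotientGroup.mk' (Q05.sqSub N hab)) := by
    intro v hv
    rw [hS_mem]
    refine ⟨N.pow_mem hv 2, fun x => ?_⟩
    exact ⟨Ec x v, Q05.Ec_mem hN hv x, Q05.Ec_sq hN hab hv x⟩
  rcases hirr _ hSinv hSsq inf_le_left with h | h
  · exfalso
    have hv₀S : v₀ ∈ N ⊓ (Subgroup.center (X ⧸ Q05.sqSub N hab)).comap
        (QuotientGroup.mk' (Q05.sqSub N hab)) := ⟨hv₀, hqZ⟩
    have hsq : v₀ ∈ Q05.sqSub N hab := h v₀ hv₀S
    apply hq1
    apply Subtype.ext
    exact (QuotientGroup.eq_one_iff v₀).mpr hsq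
  · intro x v hv
    have hvS : v ∈ N ⊓ (Subgroup.center (X ⧸ Q05.sqSub N hab)).comap
        (QuotientGroup.mk' (Q05.sqSub N hab)) := by rw [h]; exact hv
    exact ((hS_mem v).mp hvS).2 x

end Cfsg.Agent.Lib.Helper12.SC3.PC2
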