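import Cfsg.Agent.Lib.Helper12.SC3.PC2.Defs

/-!
# S1904 farm — PART PC2 sub-farm (architect helper12) — leaf Q05a
Paper proof: `SC3/Blueprint.lean`, Case 2.  Definitions: `SC3/Defs.lean`, `SC3/PC2/Defs.lean`; shared lemmas (G2,G3,G4) in `SC3/G.lean` may be used as black boxes.
Only replace the `sorry`; names / statements / namespace verbatim; aux lemmas with fresh names in sub-namespace `Q05a`.

RECIPE.  Irreducibility of `N/N₁`.  `π : v ↦ v^(2^(n-1))` is an `A`-equivariant endomorphism of `N` with image `Om1Z X` (`c.div` with `k = 1`, `c.om`) and kernel `{v | v^(2^(n-1)) = 1}` = squares of `N` (`c.div` with `k = n-1`).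
`π(S)` is an `A`-invariant subgroup of `Om1Z X`: `⊥` (then `S ≤ ker π` = squares) or everything (then `S · (squares) = N`, and `S ⊇ squares` gives `S = N`).
-/

set_option autoImplicit false

namespace Cfsg.Agent.Lib.Helper12.SC3.PC2

variable {X : Type*} [Group X] {A : Subgroup (MulAut X)} {N : Subgroup X} {n : ℕ}

namespace Q05a

/-- image of the abelian subgroup `S` under the `k`-th power map -/
def powImage (S : Subgroup X) (hS : Ab S) (k : ℕ) : Subgroup X where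
  carrier := {t | ∃ s ∈ S, t = s ^ k}
  one_mem' := ⟨1, S.one_mem, by simp⟩
  mul_mem' := by
    rintro _ _ ⟨a, ha, rfl⟩ ⟨b, hb, rfl⟩
    exact ⟨a * b, S.mul_mem ha hb, ((show Commute a b from hS a ha b hb).mul_pow k).symm⟩
  inv_mem' := by
    rintro _ ⟨a, ha, rfl⟩
    exact ⟨a⁻¹, S.inv_mem ha, by rw [inv_pow]⟩

end Q05a

theorem irr_top [Finite X] (c : Ctx3 A N n) (S : Subgroup X) (hS : Inv A S) (h1 : ∀ v ∈ N, v ^ 2 ∈ S)
    (h2 : S ≤ N) : (∀ s ∈ S, ∃ m ∈ N, s = m ^ 2) ∨ S = N := by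
  have hSab : Ab S := fun a ha b hb => c.c.ab a (h2 ha) b (h2 hb)
  have hn := c.two_le
  obtain ⟨k, hk⟩ : ∃ k : ℕ, k = 2 ^ (n - 1) := ⟨_, rfl⟩
  have hk2 : k * 2 = 2 ^ n := by
    rw [hk, ← pow_succ]
    congr 1
    omega
  have h11 : n - (n - 1) = 1 := by omega
  have hT_le : Q05a.powImage S hSab k ≤ Om1Z X := by
    rintro _ ⟨s, hs, rfl⟩
    apply c.om _ (N.pow_mem (h2 hs) _)
    rw [← pow_mul, hk2]
    exact c.exp s (h2 hs)
  have hT_inv : Inv A (Q05a.powImage S hSab k) := by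
    rintro φ hφ _ ⟨s, hs, rfl⟩
    exact ⟨φ s, hS φ hφ s hs, map_pow φ s k⟩
  rcases c.irr _ hT_le hT_inv with hT | hT
  · left
    intro s hs
    have h1' : s ^ k = 1 := by
      have hmem : s ^ k ∈ Q05a.powImage S hSab k := ⟨s, hs, rfl⟩
      rw [hT] at hmem
      exact Subgroup.mem_bot.mp hmem
    rw [hk] at h1'
    obtain ⟨u, hu, hsu⟩ := c.div (n - 1) (by omega) s (h2 hs) h1'
    refine ⟨u, hu, ?_⟩
    rw [hsu, h11, pow_one]
  · right
    apply le_antisymm h2
    intro v hv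
    have hπv : v ^ k ∈ Q05a.powImage S hSab k := by
      rw [hT]
      apply c.om _ (N.pow_mem hv _)
      rw [← pow_mul, hk2]
      exact c.exp v hv
    obtain ⟨s, hs, hvs⟩ := hπv
    have hcomm : Commute v s⁻¹ := c.c.ab v hv s⁻¹ (N.inv_mem (h2 hs))
    have h3 : (v * s⁻¹) ^ k = 1 := by
      rw [hcomm.mul_pow, hvs, inv_pow, mul_inv_cancel]
    rw [hk] at h3
    obtain ⟨u, hu, hvu⟩ := c.div (n - 1) (by omega) (v * s⁻¹) (N.mul_mem hv (N.inv_mem (h2 hs))) h3
    have h4 : v * s⁻¹ ∈ S := by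
      rw [hvu, h11, pow_one]
      exact h1 u hu
    have h5 : v = (v * s⁻¹) * s := by group
    rw [h5]
    exact S.mul_mem h4 hs

end Cfsg.Agent.Lib.Helper12.SC3.PC2
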