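import Cfsg.Agent.Lib.Helper12.SC3.PC2.Defs
import Cfsg.Agent.Lib.Helper8.SC3G6

/-!
# S1904 farm — PART PC2 sub-farm (architect helper12) — leaf Q06i
Paper proof: `SC3/Blueprint.lean`, Case 2.  Definitions: `SC3/Defs.lean`, `SC3/PC2/Defs.lean`; shared lemmas (G2,G3,G4) in `SC3/G.lean` may be used as black boxes.
Only replace the `sorry`; names / statements / namespace verbatim; aux lemmas with fresh names in sub-namespace `Q06i`.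

RECIPE.  Blueprint (G6).  `V₁ = N/N₁`, `V₂ = N₁/N₂` have order 4 (or `V₂` trivial... no: `n ≥ 2`), `a` permutes the nonzero elements of each cyclically (transport `hmove` by the power maps).  `f = Ē_x`, `hnorm`: `f + a f a⁻¹ + a² f a⁻² = 0`.
If `f(v̄) = 0` with `v̄ ≠ 0`: `V₁ = {0, v̄, a v̄, a² v̄}`, `v̄ + a v̄ + a² v̄ = 0`; evaluate `hnorm` at `v̄`: `a f(a² v̄) + a² f(a v̄) = 0`; with `r = f(a v̄) = f(a² v̄)` this is `a r = a² r`, so `r = 0` and `f = 0`: against `hne`.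
-/

set_option autoImplicit false

namespace Cfsg.Agent.Lib.Helper12.SC3.PC2

variable {X : Type*} [Group X] {A : Subgroup (MulAut X)} {N : Subgroup X} {n : ℕ}

namespace Q06i

open Cfsg.Agent.Lib.Helper8.SC3G6

theorem aut_mem_Om1Z (φ : MulAut X) {r : X} (hr : r ∈ Om1Z X) : φ r ∈ Om1Z X := by
  rw [mem_Om1Z] at hr ⊢
  refine ⟨?_, by rw [← map_pow, hr.2, map_one]⟩
  rw [Subgroup.mem_center_iff]
  intro g
  have h := Subgroup.mem_center_iff.1 hr.1 (φ⁻¹ g)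
  have h2 := congrArg φ h
  simpa using h2

/-- restriction of an automorphism to `Om1Z X` -/
def restr (a : MulAut X) : (Om1Z X) ≃* (Om1Z X) where
  toFun r := ⟨a r, aut_mem_Om1Z a r.2⟩
  invFun r := ⟨a⁻¹ r, aut_mem_Om1Z a⁻¹ r.2⟩
  left_inv r := by ext; simp
  right_inv r := by ext; simp
  map_mul' r s := by ext; simp

theorem expR (v : Om1Z X) : v ^ 2 = 1 := Subtype.ext (by simpa using (mem_Om1Z.1 v.2).2)

theorem fpfR (a : MulAut X) (hmove : ∀ r ∈ Om1Z X, a r = r → r = 1) (v : Om1Z X)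
    (hv : restr a v = v) : v = 1 :=
  Subtype.ext (hmove v.1 v.2 (congrArg Subtype.val hv))

theorem four_R (hR4 : Nat.card (Om1Z X) = 4) (a : MulAut X) (hmove : ∀ r ∈ Om1Z X, a r = r → r = 1)
    {r : X} (hr : r ∈ Om1Z X) (hr1 : r ≠ 1) {w : X} (hw : w ∈ Om1Z X) :
    w = 1 ∨ w = r ∨ w = a r ∨ w = r * a r := by
  have := mem_four hR4 expR (restr a) (fpfR a hmove) ⟨r, hr⟩
    (fun h => hr1 (congrArg Subtype.val h)) ⟨w, hw⟩
  rcases this with h | h | h | h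
  · exact Or.inl (congrArg Subtype.val h)
  · exact Or.inr (Or.inl (congrArg Subtype.val h))
  · exact Or.inr (Or.inr (Or.inl (congrArg Subtype.val h)))
  · exact Or.inr (Or.inr (Or.inr (congrArg Subtype.val h)))

theorem inv_R (hR4 : Nat.card (Om1Z X) = 4) (a : MulAut X) (hmove : ∀ r ∈ Om1Z X, a r = r → r = 1)
    {r : X} (hr : r ∈ Om1Z X) (hr1 : r ≠ 1) : a⁻¹ r = r * a r := by
  have := symm_eq hR4 expR (restr a) (fpfR a hmove) ⟨r, hr⟩ (fun h => hr1 (congrArg Subtype.val h))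
  exact congrArg Subtype.val this

theorem sq_fix_R (a : MulAut X) (hmove : ∀ r ∈ Om1Z X, a r = r → r = 1)
    {t : X} (ht : t ∈ Om1Z X) (h : a (a t) = t) : t = 1 := by
  have := eq_one_of_sq_fix expR (restr a) (fpfR a hmove) ⟨t, ht⟩ (Subtype.ext h)
  exact congrArg Subtype.val this

end Q06i

open Q06i in
theorem inj_of_norm_zero [Finite X] (c : Ctx3 A N n)
    (a : MulAut X) (ha : a ∈ A) (hmove : ∀ r ∈ Om1Z X, a r = r → r = 1) (x : X)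
    (hsq : ∀ v ∈ N, ∃ m ∈ N, Ec x v = m ^ 2)
    (hnorm : ∀ v ∈ N, ∃ m ∈ N, Ec x v * a (Ec x (a⁻¹ v)) * a (a (Ec x (a⁻¹ (a⁻¹ v)))) = m ^ 4)
    (hne : ∃ v ∈ N, ¬ ∃ m ∈ N, Ec x v = m ^ 4) :
    ∀ v ∈ N, (∃ m ∈ N, Ec x v = m ^ 4) → ∃ m ∈ N, v = m ^ 2 := by
  classical
  obtain ⟨j, rfl⟩ : ∃ j, n = j + 2 := ⟨n - 2, by have := c.two_le; omega⟩
  have hab := c.c.ab
  have hainv : ∀ v ∈ N, a v ∈ N := c.c.inv a ha
  have hainv' : ∀ v ∈ N, a⁻¹ v ∈ N := c.c.inv a⁻¹ (A.inv_mem ha)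
  have hcomm : ∀ v ∈ N, ∀ w ∈ N, Commute v w := fun v hv w hw => hab v hv w hw
  have hexp := c.exp
  -- arithmetic
  have ar1 : 2 ^ (j + 1) * 2 = 2 ^ (j + 2) := by rw [← pow_succ]
  have ar2 : 2 * 2 ^ j = 2 ^ (j + 1) := by rw [pow_succ]; ring
  have ar3 : 4 * 2 ^ j = 2 ^ (j + 2) := by rw [pow_succ, pow_succ]; ring
  -- E facts
  have hEN : ∀ v ∈ N, Ec x v ∈ N := by
    intro v hv; obtain ⟨m, hm, h⟩ := hsq v hv; rw [h]; exact N.pow_mem hm 2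
  have hEmul : ∀ v ∈ N, ∀ w ∈ N, Ec x (v * w) = Ec x v * Ec x w := by
    intro v hv w hw
    have id1 : Ec x (v * w) = w⁻¹ * Ec x v * w * Ec x w := by simp only [Ec]; group
    rw [id1, mul_assoc w⁻¹, ← hab w hw _ (hEN v hv), ← mul_assoc, inv_mul_cancel, one_mul]
  -- P facts
  have hPR : ∀ v ∈ N, v ^ (2 ^ (j + 1)) ∈ Om1Z X := by
    intro v hv
    refine c.om _ (N.pow_mem hv _) ?_
    rw [← pow_mul, ar1, hexp v hv]
  have hPker : ∀ v ∈ N, v ^ (2 ^ (j + 1)) = 1 → ∃ m ∈ N, v = m ^ 2 := by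
    intro v hv h
    obtain ⟨u, hu, h2⟩ := c.div (j + 1) (by omega) v hv h
    have : j + 2 - (j + 1) = 1 := by omega
    rw [this, pow_one] at h2
    exact ⟨u, hu, h2⟩
  have hPmul : ∀ v ∈ N, ∀ w ∈ N, (v * w) ^ (2 ^ (j + 1)) = v ^ (2 ^ (j + 1)) * w ^ (2 ^ (j + 1)) :=
    fun v hv w hw => (hcomm v hv w hw).mul_pow _
  -- F facts
  have hF1 : ∀ w ∈ N, (Ec x w) ^ (2 ^ j) = 1 → ∃ m ∈ N, Ec x w = m ^ 4 := by
    intro w hw h
    obtain ⟨m, hm, hm2⟩ := hsq w hw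
    rw [hm2, ← pow_mul, ar2] at h
    obtain ⟨u, hu, hu2⟩ := hPker m hm h
    refine ⟨u, hu, ?_⟩
    rw [hm2, hu2, ← pow_mul]
  have hF2 : ∀ w ∈ N, (∃ m ∈ N, Ec x w = m ^ 4) → (Ec x w) ^ (2 ^ j) = 1 := by
    rintro w hw ⟨m, hm, h⟩
    rw [h, ← pow_mul, ar3, hexp m hm]
  have hFR : ∀ w ∈ N, (Ec x w) ^ (2 ^ j) ∈ Om1Z X := by
    intro w hw
    obtain ⟨m, hm, hm2⟩ := hsq w hw
    rw [hm2, ← pow_mul, ar2]
    exact hPR m hm
  have hFmul : ∀ v ∈ N, ∀ w ∈ N, (Ec x (v * w)) ^ (2 ^ j) = (Ec x v) ^ (2 ^ j) * (Ec x w) ^ (2 ^ j) := by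
    intro v hv w hw
    rw [hEmul v hv w hw]
    exact (hcomm _ (hEN v hv) _ (hEN w hw)).mul_pow _
  have hFsq : ∀ m ∈ N, (Ec x (m ^ 2)) ^ (2 ^ j) = 1 := by
    intro m hm
    rw [pow_two, hFmul m hm m hm, ← pow_two]
    exact (mem_Om1Z.1 (hFR m hm)).2
  -- relation
  have hrel : ∀ w ∈ N, (Ec x w) ^ (2 ^ j) * a ((Ec x (a⁻¹ w)) ^ (2 ^ j)) *
      a (a ((Ec x (a⁻¹ (a⁻¹ w))) ^ (2 ^ j))) = 1 := by
    intro w hw
    obtain ⟨m, hm, h⟩ := hnorm w hw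
    have hp := hEN w hw
    have hq : a (Ec x (a⁻¹ w)) ∈ N := hainv _ (hEN _ (hainv' w hw))
    have hs : a (a (Ec x (a⁻¹ (a⁻¹ w)))) ∈ N :=
      hainv _ (hainv _ (hEN _ (hainv' _ (hainv' w hw))))
    have h3 : (Ec x w * a (Ec x (a⁻¹ w)) * a (a (Ec x (a⁻¹ (a⁻¹ w))))) ^ (2 ^ j) = (m ^ 4) ^ (2 ^ j) := by rw [h]
    rw [(hcomm _ (N.mul_mem hp hq) _ hs).mul_pow, (hcomm _ hp _ hq).mul_pow, ← pow_mul, ar3,
      hexp m hm, ← map_pow, ← map_pow, ← map_pow] at h3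
    exact h3
  -- key: F depends only on P
  have hkey : ∀ w ∈ N, ∀ u ∈ N, w ^ (2 ^ (j + 1)) = u ^ (2 ^ (j + 1)) →
      (Ec x w) ^ (2 ^ j) = (Ec x u) ^ (2 ^ j) := by
    intro w hw u hu h
    have hk : u⁻¹ * w ∈ N := N.mul_mem (N.inv_mem hu) hw
    have hk1 : (u⁻¹ * w) ^ (2 ^ (j + 1)) = 1 := by
      rw [hPmul _ (N.inv_mem hu) _ hw, inv_pow, h, inv_mul_cancel]
    obtain ⟨m, hm, hm2⟩ := hPker _ hk hk1
    have hw2 : w = u * (u⁻¹ * w) := by group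
    rw [hw2, hFmul u hu _ hk, hm2, hFsq m hm, mul_one]
  -- main
  intro v hv hEv
  by_contra hcon
  have hFv : (Ec x v) ^ (2 ^ j) = 1 := hF2 v hv hEv
  have hr : v ^ (2 ^ (j + 1)) ∈ Om1Z X := hPR v hv
  have hr1 : v ^ (2 ^ (j + 1)) ≠ 1 := fun h => hcon (hPker v hv h)
  have hav := hainv v hv
  have hav' := hainv' v hv
  have hPa : (a v) ^ (2 ^ (j + 1)) = a (v ^ (2 ^ (j + 1))) := (map_pow a v _).symm
  have hPa' : (a⁻¹ v) ^ (2 ^ (j + 1)) = (v * a v) ^ (2 ^ (j + 1)) := by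
    rw [hPmul v hv _ hav, hPa, ← inv_R c.R4 a hmove hr hr1, map_pow]
  -- t = F (a v) = F (a⁻¹ v)
  have ht1 : (Ec x (a⁻¹ v)) ^ (2 ^ j) = (Ec x (a v)) ^ (2 ^ j) := by
    rw [hkey _ hav' _ (N.mul_mem hv hav) hPa', hFmul v hv _ hav, hFv, one_mul]
  have ht : (Ec x (a v)) ^ (2 ^ j) = 1 := by
    have h := hrel (a v) hav
    rw [MulAut.inv_apply_self, hFv, map_one, mul_one, ht1] at h
    have htR := hFR (a v) hav
    have ht2 : (Ec x (a v)) ^ (2 ^ j) * (Ec x (a v)) ^ (2 ^ j) = 1 := by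
      rw [← pow_two]; exact (mem_Om1Z.1 htR).2
    have : a (a ((Ec x (a v)) ^ (2 ^ j))) = (Ec x (a v)) ^ (2 ^ j) :=
      mul_left_cancel (h.trans ht2.symm)
    exact sq_fix_R a hmove htR this
  -- all F vanish
  obtain ⟨w, hw, hwne⟩ := hne
  apply hwne
  apply hF1 w hw
  rcases four_R c.R4 a hmove hr hr1 (hPR w hw) with h | h | h | h
  · obtain ⟨m, hm, hm2⟩ := hPker w hw h
    rw [hm2]; exact hFsq m hm
  · rw [hkey w hw v hv h, hFv]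
  · rw [hkey w hw (a v) hav (h.trans hPa.symm), ht]
  · rw [hkey w hw (v * a v) (N.mul_mem hv hav) (by rw [h, hPmul v hv _ hav, hPa]),
      hFmul v hv _ hav, hFv, ht, one_mul]

end Cfsg.Agent.Lib.Helper12.SC3.PC2
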