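import Cfsg.Agent.Lib.Helper12.SC3.PC2.Defs

/-!
# S1904 farm — PART PC2 sub-farm (architect helper12) — leaf Q06m
Paper proof: `SC3/Blueprint.lean`, Case 2.  Definitions: `SC3/Defs.lean`, `SC3/PC2/Defs.lean`; shared lemmas (G2,G3,G4) in `SC3/G.lean` may be used as black boxes.
Only replace the `sorry`; names / statements / namespace verbatim; aux lemmas with fresh names in sub-namespace `Q06m`.

RECIPE.  `A` permutes the three involutions of `Om1Z X` (order 4, exponent 2).  If every `a ∈ A` fixed some involution, then (odd order: an odd-order permutation of 3 points with a fixed point is trivial) every `a` fixes all of them,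
so each subgroup of order 2 of `Om1Z X` is `A`-invariant, against `c.irr`.
-/

set_option autoImplicit false

namespace Cfsg.Agent.Lib.Helper12.SC3.PC2

variable {X : Type*} [Group X] {A : Subgroup (MulAut X)} {N : Subgroup X} {n : ℕ}

namespace Q06m

theorem map_mem_Om1Z {X : Type*} [Group X] (a : MulAut X) {r : X} (hr : r ∈ Om1Z X) : a r ∈ Om1Z X := by
  obtain ⟨hc, h2⟩ := hr
  refine ⟨?_, by rw [← map_pow, h2, map_one]⟩
  rw [Subgroup.mem_center_iff] at hc ⊢
  intro g
  have h3 := congrArg a (hc (a.symm g))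
  simpa using h3

theorem cases_of_card_four {X : Type*} [Group X] [Finite X] (h4 : Nat.card (Om1Z X) = 4)
    {r0 r y : X} (hr0 : r0 ∈ Om1Z X) (hr : r ∈ Om1Z X) (hy : y ∈ Om1Z X)
    (hr0ne : r0 ≠ 1) (h1 : r ≠ 1) (h0 : r ≠ r0) (hy1 : y ≠ 1) (hy0 : y ≠ r0) :
    y = r ∨ y = r0 * r := by
  classical
  haveI : Fintype ↥(Om1Z X) := Fintype.ofFinite _
  have hcard : Fintype.card ↥(Om1Z X) = 4 := by rw [← Nat.card_eq_fintype_card]; exact h4
  have hsq0 : r0 * r0 = 1 := by rw [← pow_two]; exact hr0.2
  let e1 : ↥(Om1Z X) := 1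
  let e2 : ↥(Om1Z X) := ⟨r0, hr0⟩
  let e3 : ↥(Om1Z X) := ⟨r, hr⟩
  let e4 : ↥(Om1Z X) := ⟨r0 * r, (Om1Z X).mul_mem hr0 hr⟩
  have d12 : e1 ≠ e2 := fun h => hr0ne (congrArg Subtype.val h).symm
  have d13 : e1 ≠ e3 := fun h => h1 (congrArg Subtype.val h).symm
  have d14 : e1 ≠ e4 := by
    intro h
    have h' : (1 : X) = r0 * r := congrArg Subtype.val h
    apply h0
    calc r = r0 * (r0 * r) := by rw [← mul_assoc, hsq0, one_mul]
      _ = r0 := by rw [← h', mul_one]
  have d23 : e2 ≠ e3 := fun h => h0 (congrArg Subtype.val h).symm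
  have d24 : e2 ≠ e4 := by
    intro h
    have h' : r0 = r0 * r := congrArg Subtype.val h
    exact h1 (by simpa using h'.symm)
  have d34 : e3 ≠ e4 := by
    intro h
    have h' : r = r0 * r := congrArg Subtype.val h
    exact hr0ne (by simpa using h'.symm)
  have hs : ({e1, e2, e3, e4} : Finset ↥(Om1Z X)).card = 4 := by
    rw [Finset.card_insert_of_notMem, Finset.card_insert_of_notMem, Finset.card_insert_of_notMem,
      Finset.card_singleton]
    · simpa using d34
    · simp only [Finset.mem_insert, Finset.mem_singleton, not_or]; exact ⟨d23, d24⟩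
    · simp only [Finset.mem_insert, Finset.mem_singleton, not_or]; exact ⟨d12, d13, d14⟩
  have huniv : ({e1, e2, e3, e4} : Finset ↥(Om1Z X)) = Finset.univ :=
    Finset.eq_univ_of_card _ (by rw [hs, hcard])
  have hmem : (⟨y, hy⟩ : ↥(Om1Z X)) ∈ ({e1, e2, e3, e4} : Finset ↥(Om1Z X)) := by
    rw [huniv]; exact Finset.mem_univ _
  simp only [Finset.mem_insert, Finset.mem_singleton] at hmem
  rcases hmem with h | h | h | h
  · exact absurd (congrArg Subtype.val h) hy1
  · exact absurd (congrArg Subtype.val h) hy0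
  · exact Or.inl (congrArg Subtype.val h)
  · exact Or.inr (congrArg Subtype.val h)

end Q06m

theorem exists_mover [Finite X] (c : Ctx3 A N n) : ∃ a ∈ A, ∀ r ∈ Om1Z X, a r = r → r = 1 := by
  by_contra hcon
  push_neg at hcon
  have hsq : ∀ r ∈ Om1Z X, r * r = 1 := fun r hr => by rw [← pow_two]; exact hr.2
  have hfix : ∀ a ∈ A, ∀ r ∈ Om1Z X, a r = r := by
    intro a ha
    obtain ⟨r0, hr0, har0, hr0ne⟩ := hcon a ha
    have h2 : ∀ r ∈ Om1Z X, a (a r) = r := by
      intro r hr
      by_cases h1 : r = 1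
      · subst h1; simp
      by_cases h0 : r = r0
      · subst h0; rw [har0, har0]
      have hy : a r ∈ Om1Z X := Q06m.map_mem_Om1Z a hr
      have hy1 : a r ≠ 1 := fun h => h1 (by simpa using h)
      have hy0 : a r ≠ r0 := by
        intro h
        apply h0
        have : a r = a r0 := by rw [h, har0]
        exact a.injective this
      rcases Q06m.cases_of_card_four c.R4 hr0 hr hy hr0ne h1 h0 hy1 hy0 with e | e
      · rw [e, e]
      · rw [e, map_mul, har0, e, ← mul_assoc, hsq r0 hr0, one_mul]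
    have hodd : Odd (orderOf a) := by
      have h1 : orderOf (⟨a, ha⟩ : A) ∣ Nat.card A := orderOf_dvd_natCard _
      have h3 : orderOf (⟨a, ha⟩ : A) = orderOf a := Subgroup.orderOf_mk a ha
      rw [h3] at h1
      exact c.c.hyp.odd.of_dvd_nat h1
    obtain ⟨j, hj⟩ := hodd
    intro r hr
    have hpow : ∀ k : ℕ, ((a * a) ^ k) r = r := by
      intro k
      induction k with
      | zero => simp
      | succ k ih =>
        rw [pow_succ, MulAut.mul_apply, MulAut.mul_apply, h2 r hr, ih]
    have ha1 : a ^ (2 * j + 1) = 1 := by rw [← hj]; exact pow_orderOf_eq_one a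
    have hae : (a * a) ^ (j + 1) = a := by
      rw [← pow_two, ← pow_mul]
      have : 2 * (j + 1) = (2 * j + 1) + 1 := by ring
      rw [this, pow_succ, ha1, one_mul]
    have := hpow (j + 1)
    rw [hae] at this
    exact this
  -- a subgroup of order 2 of `Om1Z X` is invariant
  have hne : ∃ r0 ∈ Om1Z X, r0 ≠ 1 := by
    by_contra hn
    push_neg at hn
    have hbot : Om1Z X = ⊥ := by
      rw [eq_bot_iff]
      intro x hx
      rw [Subgroup.mem_bot]
      exact hn x hx
    have h4 := c.R4
    rw [hbot, Subgroup.card_bot] at h4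
    omega
  obtain ⟨r0, hr0, hr0ne⟩ := hne
  have hS : Subgroup.zpowers r0 ≤ Om1Z X := by
    rw [Subgroup.zpowers_le]; exact hr0
  have hSinv : Inv A (Subgroup.zpowers r0) := by
    intro φ hφ x hx
    have := hfix φ hφ x (hS hx)
    rw [this]; exact hx
  have hcardS : Nat.card (Subgroup.zpowers r0) = 2 := by
    rw [Nat.card_zpowers]
    exact orderOf_eq_prime (hr0.2) hr0ne
  rcases c.irr _ hS hSinv with h | h
  · rw [h, Subgroup.card_bot] at hcardS
    omega
  · rw [h, c.R4] at hcardS
    omega

end Cfsg.Agent.Lib.Helper12.SC3.PC2
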