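import Cfsg.Agent.Lib.Helper12.SC3.PC2.Defs

/-!
# S1904 farm — PART PC2 sub-farm (architect helper12) — leaf Q06s
Paper proof: `SC3/Blueprint.lean`, Case 2.  Definitions: `SC3/Defs.lean`, `SC3/PC2/Defs.lean`; shared lemmas (G2,G3,G4) in `SC3/G.lean` may be used as black boxes.
Only replace the `sorry`; names / statements / namespace verbatim; aux lemmas with fresh names in sub-namespace `Q06s`.

RECIPE.  If `Ec x v ≡ v² (mod N₂)` for all `v`, then `hnorm` at `v` reads `v² · a((a⁻¹v)²) · a²((a⁻²v)²) = v⁶ ≡ 1 (mod N₂)`, i.e. `v² ∈ N₂` for all `v ∈ N`; but `v² = m⁴` forces `(v m⁻²)² = 1`, `v ∈ m² Om1Z X`, so `v` is a square (`Om1Z X ⊆` squares, `n ≥ 2`)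
for every `v ∈ N`: impossible (`|N : squares| = 4`, e.g. an element of order `2^n` is not a square).
-/

set_option autoImplicit false

namespace Cfsg.Agent.Lib.Helper12.SC3.PC2

variable {X : Type*} [Group X] {A : Subgroup (MulAut X)} {N : Subgroup X} {n : ℕ}

theorem not_sq_of_norm_zero [Finite X] (c : Ctx3 A N n)
    (a : MulAut X) (ha : a ∈ A) (hmove : ∀ r ∈ Om1Z X, a r = r → r = 1) (x : X)
    (hnorm : ∀ v ∈ N, ∃ m ∈ N, Ec x v * a (Ec x (a⁻¹ v)) * a (a (Ec x (a⁻¹ (a⁻¹ v)))) = m ^ 4) :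
    ¬ (∀ v ∈ N, ∃ m ∈ N, Ec x v = v ^ 2 * m ^ 4) := by
  intro hs
  have hab := c.c.ab
  have hinv := c.c.inv
  have hai : a⁻¹ ∈ A := A.inv_mem ha
  -- commutativity helper inside N
  have comm : ∀ p ∈ N, ∀ q ∈ N, p * q = q * p := hab
  -- every element of N has its square a fourth power
  have h1 : ∀ v ∈ N, ∃ t ∈ N, v ^ 2 = t ^ 4 := by
    intro v hv
    obtain ⟨m, hm, hmeq⟩ := hnorm v hv
    have hv1 : a⁻¹ v ∈ N := hinv _ hai v hv
    have hv2 : a⁻¹ (a⁻¹ v) ∈ N := hinv _ hai _ hv1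
    obtain ⟨m1, hm1, e1⟩ := hs v hv
    obtain ⟨m2, hm2, e2⟩ := hs _ hv1
    obtain ⟨m3, hm3, e3⟩ := hs _ hv2
    have ha2 : a (a⁻¹ v) = v := by simp
    have ha3 : a (a (a⁻¹ (a⁻¹ v))) = v := by simp
    have e2' : a (Ec x (a⁻¹ v)) = v ^ 2 * (a m2) ^ 4 := by
      rw [e2, map_mul, map_pow, map_pow, ha2]
    have e3' : a (a (Ec x (a⁻¹ (a⁻¹ v)))) = v ^ 2 * (a (a m3)) ^ 4 := by
      rw [e3, map_mul, map_mul, map_pow, map_pow, map_pow, map_pow, ha3]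
    rw [e1, e2', e3'] at hmeq
    have hb2 : a m2 ∈ N := hinv _ ha _ hm2
    have hb3 : a (a m3) ∈ N := hinv _ ha _ (hinv _ ha _ hm3)
    -- move to the commutative group ↥N
    letI : CommGroup N := { (inferInstance : Group N) with
      mul_comm := fun p q => Subtype.ext (comm p p.2 q q.2) }
    let V : N := ⟨v, hv⟩
    let M : N := ⟨m, hm⟩
    let M1 : N := ⟨m1, hm1⟩
    let B2 : N := ⟨a m2, hb2⟩
    let B3 : N := ⟨a (a m3), hb3⟩
    have hN : V ^ 2 * M1 ^ 4 * (V ^ 2 * B2 ^ 4) * (V ^ 2 * B3 ^ 4) = M ^ 4 := Subtype.ext hmeq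
    have hN2 : V ^ 2 = (M * M1⁻¹ * B2⁻¹ * B3⁻¹ * V⁻¹) ^ 4 := by
      rw [mul_pow, mul_pow, mul_pow, mul_pow, ← hN]
      simp only [inv_pow]
      have : V ^ 2 * M1 ^ 4 * (V ^ 2 * B2 ^ 4) * (V ^ 2 * B3 ^ 4) * (M1 ^ 4)⁻¹ * (B2 ^ 4)⁻¹ * (B3 ^ 4)⁻¹ * (V ^ 4)⁻¹
          = V ^ 2 := by
        have e : V ^ 4 = V ^ 2 * V ^ 2 := by rw [← pow_add]
        rw [e, mul_inv_eq_iff_eq_mul, mul_inv_eq_iff_eq_mul, mul_inv_eq_iff_eq_mul, mul_inv_eq_iff_eq_mul]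
        ac_rfl
      exact this.symm
    refine ⟨(M * M1⁻¹ * B2⁻¹ * B3⁻¹ * V⁻¹ : N).1, (M * M1⁻¹ * B2⁻¹ * B3⁻¹ * V⁻¹ : N).2, ?_⟩
    have := congrArg Subtype.val hN2
    simpa using this
  -- every element of N is a square
  have h2 : ∀ v ∈ N, ∃ s ∈ N, v = s ^ 2 := by
    intro v hv
    obtain ⟨t, ht, hvt⟩ := h1 v hv
    have ht2 : t ^ 2 ∈ N := N.pow_mem ht 2
    have hc : Commute v (t ^ 2)⁻¹ := comm v hv _ (N.inv_mem ht2)
    have hr : (v * (t ^ 2)⁻¹) ^ 2 = 1 := by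
      rw [hc.mul_pow, hvt, inv_pow, ← pow_mul]
      exact mul_inv_cancel _
    have hrN : v * (t ^ 2)⁻¹ ∈ N := N.mul_mem hv (N.inv_mem ht2)
    have hrR : v * (t ^ 2)⁻¹ ∈ Om1Z X := c.om _ hrN hr
    obtain ⟨u, hu, hueq⟩ := c.div 1 (by have := c.two_le; omega) _ hrN (by rw [pow_one]; exact hr)
    have hn2 : n - 1 = (n - 2) + 1 := by have := c.two_le; omega
    have hu2 : u ^ (2 ^ (n - 2)) ∈ N := N.pow_mem hu _
    refine ⟨t * u ^ (2 ^ (n - 2)), N.mul_mem ht hu2, ?_⟩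
    have hc2 : Commute t (u ^ (2 ^ (n - 2))) := comm t ht _ hu2
    rw [hc2.mul_pow, ← pow_mul, ← pow_succ, ← hn2, ← hueq]
    have hc3 : Commute (t ^ 2) (v * (t ^ 2)⁻¹) := comm _ ht2 _ hrN
    rw [hc3.eq]
    group
  -- squaring on N is surjective hence injective, but Om1Z X has order 4
  letI : CommGroup N := { (inferInstance : Group N) with
    mul_comm := fun p q => Subtype.ext (comm p p.2 q q.2) }
  have hsurj : Function.Surjective (fun v : N => v ^ 2) := by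
    intro v
    obtain ⟨s, hs, hveq⟩ := h2 v.1 v.2
    exact ⟨⟨s, hs⟩, Subtype.ext hveq.symm⟩
  have hinj : Function.Injective (fun v : N => v ^ 2) := Finite.injective_iff_surjective.mpr hsurj
  have hR1 : ∀ r ∈ Om1Z X, r = 1 := by
    intro r hr
    have hrN : r ∈ N := c.RN hr
    have : (fun v : N => v ^ 2) ⟨r, hrN⟩ = (fun v : N => v ^ 2) 1 := by
      apply Subtype.ext
      simp only [one_pow, Subgroup.coe_pow, Subgroup.coe_one]
      exact hr.2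
    have := hinj this
    exact congrArg Subtype.val this
  have hcard : Nat.card (Om1Z X) = 1 := by
    rw [Nat.card_eq_one_iff_unique]
    exact ⟨⟨fun p q => Subtype.ext ((hR1 p p.2).trans (hR1 q q.2).symm)⟩, ⟨1⟩⟩
  rw [c.R4] at hcard
  omega

end Cfsg.Agent.Lib.Helper12.SC3.PC2
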