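import Cfsg.Agent.Lib.Helper12.SC3.PC2.Defs

/-!
# S1904 farm — PART PC2 sub-farm (architect helper12) — leaf Q07a
Paper proof: `SC3/Blueprint.lean`, Case 2.  Definitions: `SC3/Defs.lean`, `SC3/PC2/Defs.lean`; shared lemmas (G2,G3,G4) in `SC3/G.lean` may be used as black boxes.
Only replace the `sorry`; names / statements / namespace verbatim; aux lemmas with fresh names in sub-namespace `Q07a`.

RECIPE.  Blueprint (2.4).  `n = 2`: `m⁴ = 1` on `N` (`c.exp`), squares of `N` = `Om1Z X` (`c.div`, `c.om`).  `X ≠ N` (else `N = X` abelian normal, `centralizer N = N = X` means `X` abelian, so `N ≤ center`: against `c.c.ncen`).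
Fix `v₀ ∈ N` not a square.  `x ↦ Ec x v₀` is a homomorphism `X → Om1Z X` (values in `Om1Z X` by `hsq`, central) with kernel `{x | Ec x v₀ = 1}`; if `x` is in the kernel and `x ∉ N = centralizer N`
then `Ec x · ≢ 1` on `N`, so `hinj x` applies (`m⁴ = 1`!) and makes `v₀` a square: no.  So the kernel is `N`, `|X : N| ≤ 4`.  `|X : N| = 2` is impossible: then `X/N` is abelian and `A` fixes `X/N` pointwise
(`φ x ∈ x N` since `φ` permutes the 2 cosets fixing `N`), so `mem_of_fixed_mod` (G3) puts every `x` in `N`.  Hence `|X| = 4 · 16`.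
-/

set_option autoImplicit false

namespace Cfsg.Agent.Lib.Helper12.SC3.PC2

variable {X : Type*} [Group X] {A : Subgroup (MulAut X)} {N : Subgroup X} {n : ℕ}

namespace Q07a

theorem Ec_mul {X : Type*} [Group X] (x y v : X) (hz : Ec x v ∈ Subgroup.center X) :
    Ec (x * y) v = Ec x v * Ec y v := by
  have hc : ∀ g : X, g * Ec x v = Ec x v * g := Subgroup.mem_center_iff.mp hz
  have e1 : x⁻¹ * v * x = v * Ec x v := by simp [Ec, mul_assoc]
  calc Ec (x * y) v = v⁻¹ * y⁻¹ * (x⁻¹ * v * x) * y := by simp [Ec, mul_assoc]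
    _ = v⁻¹ * y⁻¹ * (v * Ec x v) * y := by rw [e1]
    _ = v⁻¹ * y⁻¹ * v * (Ec x v * y) := by simp only [mul_assoc]
    _ = v⁻¹ * y⁻¹ * v * (y * Ec x v) := by rw [hc y]
    _ = Ec y v * Ec x v := by simp only [Ec, mul_assoc]
    _ = Ec x v * Ec y v := hc _

end Q07a

theorem card_64 [Finite X] (c : Ctx3 A N 2) (hC : Subgroup.centralizer (N : Set X) = N)
    (hsq : ∀ x : X, ∀ v ∈ N, ∃ m ∈ N, Ec x v = m ^ 2)
    (hinj : ∀ x : X, (∃ v ∈ N, ¬ ∃ m ∈ N, Ec x v = m ^ 4) →
      ∀ v ∈ N, (∃ m ∈ N, Ec x v = m ^ 4) → ∃ m ∈ N, v = m ^ 2) : Nat.card X = 64 := by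
  have h4 : ∀ m ∈ N, m ^ 4 = 1 := fun m hm => by simpa using c.exp m hm
  have hsqR : ∀ m ∈ N, m ^ 2 ∈ Om1Z X := fun m hm =>
    c.om _ (N.pow_mem hm 2) (by rw [← pow_mul]; exact h4 m hm)
  have hER : ∀ x : X, ∀ v ∈ N, Ec x v ∈ Om1Z X := by
    intro x v hv
    obtain ⟨m, hm, e⟩ := hsq x v hv
    rw [e]
    exact hsqR m hm
  have hcardN : Nat.card N = 16 := by rw [c.card]; norm_num
  obtain ⟨v₀, hv₀N, hv₀R⟩ : ∃ v₀ ∈ N, v₀ ∉ Om1Z X := by
    by_contra hcon
    have hle : N ≤ Om1Z X := fun v hv => by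
      by_contra hv'
      exact hcon ⟨v, hv, hv'⟩
    have : Nat.card N ≤ Nat.card (Om1Z X) := Subgroup.card_le_of_le hle
    rw [hcardN, c.R4] at this
    omega
  have hv₀ns : ¬ ∃ m ∈ N, v₀ = m ^ 2 := by
    rintro ⟨m, hm, e⟩
    exact hv₀R (e ▸ hsqR m hm)
  let f : X →* ↥(Om1Z X) := MonoidHom.mk' (fun x => ⟨Ec x v₀, hER x v₀ hv₀N⟩)
    (fun x y => Subtype.ext (Q07a.Ec_mul x y v₀ (hER x v₀ hv₀N).1))
  have hfval : ∀ x, (f x : X) = Ec x v₀ := fun x => rfl
  have hker : f.ker = N := by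
    ext x
    rw [MonoidHom.mem_ker]
    constructor
    · intro hx
      have hx1 : Ec x v₀ = 1 := by rw [← hfval, hx]; rfl
      by_contra hxN
      have hxC : x ∉ Subgroup.centralizer (N : Set X) := by rw [hC]; exact hxN
      rw [Subgroup.mem_centralizer_iff] at hxC
      simp only [not_forall] at hxC
      obtain ⟨v, hv, hne⟩ := hxC
      have hEne : Ec x v ≠ 1 := by
        intro h1
        apply hne
        have h1' : v⁻¹ * x⁻¹ * v * x = 1 := h1
        calc v * x = x * (v * (v⁻¹ * x⁻¹ * v * x)) := by group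
          _ = x * v := by rw [h1', mul_one]
      have := hinj x ⟨v, hv, by rintro ⟨m, hm, e⟩; exact hEne (e.trans (h4 m hm))⟩ v₀ hv₀N
        ⟨1, N.one_mem, by rw [hx1]; simp⟩
      exact hv₀ns this
    · intro hxN
      apply Subtype.ext
      show Ec x v₀ = 1
      have hcm := c.c.ab x hxN v₀ hv₀N
      calc Ec x v₀ = v₀⁻¹ * x⁻¹ * (v₀ * x) := by simp only [Ec, mul_assoc]
        _ = v₀⁻¹ * x⁻¹ * (x * v₀) := by rw [hcm]
        _ = 1 := by group
  have hidx : N.index ∣ 4 := by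
    rw [← hker, Subgroup.index_ker]
    have := Subgroup.card_subgroup_dvd_card f.range
    rwa [c.R4] at this
  have hcomm : ∀ a b : ↥(Om1Z X), a * b = b * a := fun a b =>
    Subtype.ext (Subgroup.mem_center_iff.mp b.2.1 a.1)
  have hab : ∀ x y : X, x * y * x⁻¹ * y⁻¹ ∈ N := by
    intro x y
    rw [← hker, MonoidHom.mem_ker, map_mul, map_mul, map_mul, map_inv, map_inv, hcomm (f x) (f y)]
    group
  have hle4 : N.index ≤ 4 := Nat.le_of_dvd (by norm_num) hidx
  have hne1 : N.index ≠ 1 := by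
    intro h1
    rw [Subgroup.index_eq_one] at h1
    apply c.c.ncen
    rw [h1, Subgroup.coe_top, Subgroup.centralizer_univ] at hC
    rw [hC]
    exact le_top
  have hne2 : N.index ≠ 2 := by
    intro h2
    apply hne1
    rw [Subgroup.index_eq_one, eq_top_iff]
    intro x _
    refine mem_of_fixed_mod c.c.hyp N c.c.nN c.c.inv hab x ?_
    intro φ hφ
    by_cases hxN : x ∈ N
    · exact N.mul_mem (N.inv_mem hxN) (c.c.inv φ hφ x hxN)
    · have hφx : φ x ∉ N := by
        intro h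
        apply hxN
        have := c.c.inv φ⁻¹ (A.inv_mem hφ) (φ x) h
        rwa [MulAut.inv_apply_self] at this
      rw [Subgroup.mul_mem_iff_of_index_two h2]
      exact ⟨fun h => absurd (N.inv_mem_iff.mp h) hxN, fun h => absurd h hφx⟩
  have h4' : N.index = 4 := by
    interval_cases h : N.index
    · simp at hidx
    · exact absurd rfl hne1
    · exact absurd rfl hne2
    · norm_num at hidx
    · rfl
  rw [← Subgroup.card_mul_index N, hcardN, h4']

end Cfsg.Agent.Lib.Helper12.SC3.PC2
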