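import Cfsg.Agent.Lib.Helper12.SC3.PC2.Defs

/-!
# S1904 farm — PART PC2 sub-farm (architect helper12) — leaf Q07b
Paper proof: `SC3/Blueprint.lean`, Case 2.  Definitions: `SC3/Defs.lean`, `SC3/PC2/Defs.lean`; shared lemmas (G2,G3,G4) in `SC3/G.lean` may be used as black boxes.
Only replace the `sorry`; names / statements / namespace verbatim; aux lemmas with fresh names in sub-namespace `Q07b`.

RECIPE.  Blueprint (2.4).  For `x ∈ N`: `x² ∈ Om1Z X` (`x⁴ = 1`, `c.om`).  For `x ∉ N`: `x² ∈ N` (`|X:N| = 4` and `X/N ↪ Om1Z X` has exponent 2: `Ec (x²) v₀ = (Ec x v₀)² = 1`... or directly: `x ↦ Ec x v` is a homomorphism into `Om1Z X` for every `v ∈ N`,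
so `Ec (x²) v = 1` for all `v ∈ N`, `x² ∈ centralizer N = N`); `x²` commutes with `x`, i.e. `Ec x (x²) = 1`; `x ∉ N` so `hinj x` applies (as in `card_64`): `x²` is a square of `N`, i.e. in `Om1Z X`.
-/

set_option autoImplicit false

namespace Cfsg.Agent.Lib.Helper12.SC3.PC2

variable {X : Type*} [Group X] {A : Subgroup (MulAut X)} {N : Subgroup X} {n : ℕ}

theorem sq_mem [Finite X] (c : Ctx3 A N 2) (hC : Subgroup.centralizer (N : Set X) = N)
    (hsq : ∀ x : X, ∀ v ∈ N, ∃ m ∈ N, Ec x v = m ^ 2)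
    (hinj : ∀ x : X, (∃ v ∈ N, ¬ ∃ m ∈ N, Ec x v = m ^ 4) →
      ∀ v ∈ N, (∃ m ∈ N, Ec x v = m ^ 4) → ∃ m ∈ N, v = m ^ 2) : ∀ x : X, x ^ 2 ∈ Om1Z X := by
  have hexp : ∀ m ∈ N, m ^ 4 = 1 := by
    intro m hm
    have := c.exp m hm
    simpa using this
  have hsqOm : ∀ m ∈ N, m ^ 2 ∈ Om1Z X := by
    intro m hm
    apply c.om _ (N.pow_mem hm 2)
    rw [← pow_mul]
    exact hexp m hm
  have hz : ∀ x : X, ∀ v ∈ N, Ec x v ∈ Om1Z X := by
    intro x v hv
    obtain ⟨m, hm, h⟩ := hsq x v hv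
    rw [h]
    exact hsqOm m hm
  intro x
  by_cases hx : x ∈ N
  · exact hsqOm x hx
  · have hx2 : x ^ 2 ∈ N := by
      rw [← hC, Subgroup.mem_centralizer_iff]
      intro v hv
      have hzc := mem_Om1Z.mp (hz x v hv)
      have hcomm : ∀ g : X, g * Ec x v = Ec x v * g :=
        fun g => Subgroup.mem_center_iff.mp hzc.1 g
      have hzz : Ec x v * Ec x v = 1 := by rw [← pow_two]; exact hzc.2
      have h2 : v * x = x * (v * Ec x v) := by unfold Ec; group
      calc v * x ^ 2 = v * x * x := by rw [pow_two, mul_assoc]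
        _ = x * (v * Ec x v) * x := by rw [h2]
        _ = x * (v * x) * Ec x v := by
            rw [mul_assoc x (v * Ec x v) x, mul_assoc v (Ec x v) x, ← hcomm x, ← mul_assoc v x,
              ← mul_assoc x (v * x)]
        _ = x * (x * (v * Ec x v)) * Ec x v := by rw [h2]
        _ = x * x * v * (Ec x v * Ec x v) := by simp only [mul_assoc]
        _ = x ^ 2 * v := by rw [hzz, mul_one, pow_two]
    have hcx : Ec x (x ^ 2) = 1 := by unfold Ec; group
    have hne : ∃ v ∈ N, ¬ ∃ m ∈ N, Ec x v = m ^ 4 := by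
      by_contra h
      push Not at h
      apply hx
      rw [← hC, Subgroup.mem_centralizer_iff]
      intro v hv
      obtain ⟨m, hm, hm4⟩ := h v hv
      rw [hexp m hm] at hm4
      have : v * x = x * (v * Ec x v) := by unfold Ec; group
      rw [this, hm4, mul_one]
    obtain ⟨m, hm, hm2⟩ := hinj x hne (x ^ 2) hx2 ⟨1, N.one_mem, by rw [hcx, one_pow]⟩
    rw [hm2]
    exact hsqOm m hm

end Cfsg.Agent.Lib.Helper12.SC3.PC2
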