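import Cfsg.Agent.Lib.Helper12.SC3.PC2.Defs
import Cfsg.Agent.Lib.Helper1.Frattini

/-!
# S1904 farm — PART PC2 sub-farm (architect helper12) — leaf Q07c
Paper proof: `SC3/Blueprint.lean`, Case 2.  Definitions: `SC3/Defs.lean`, `SC3/PC2/Defs.lean`; shared lemmas (G2,G3,G4) in `SC3/G.lean` may be used as black boxes.
Only replace the `sorry`; names / statements / namespace verbatim; aux lemmas with fresh names in sub-namespace `Q07c`.

RECIPE.  Blueprint (2.4), end.  `R = Om1Z X` is central of order 4.  All squares lie in `R` (`hsqR`), so `X/R` has exponent 2, is abelian: every commutator lies in `R`, `commutator X ≤ R`; `frattini X ≤ R` (`X/R` elementary abelian: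
the maximal subgroups containing `R` intersect in `R`); `commutator X ≤ frattini X` (2-group).  `commutator X = R`: it is `A`-invariant, nontrivial (`N` is not central), inside `R`: `c.irr`.  `center X = R`: `center X ≤ centralizer N = N`;
a central `z ∈ N` has `Ec x z = 1` for all `x`, so by `hinj` (for some `x ∉ N`; `X ≠ N`) it is a square of `N`, i.e. in `R`; conversely `R ≤ center`.  So `IsSpecial 2 X`.
An involution `u`: `closure ({u} ∪ R)` is normal (contains all commutators), abelian of exponent 2, so has order ≤ 4 (`Hyp.rk` with `M = E`), so `u ∈ R`.  Hence the involutions are the 3 nonidentity elements of `R`, all central.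
-/

set_option autoImplicit false

namespace Cfsg.Agent.Lib.Helper12.SC3.PC2

variable {X : Type*} [Group X] {A : Subgroup (MulAut X)} {N : Subgroup X} {n : ℕ}

namespace Q07c

theorem comm_eq (x y : X) (hx : x ^ 2 ∈ Subgroup.center X) :
    x * y * x⁻¹ * y⁻¹ = (x * y) ^ 2 * (x ^ 2)⁻¹ * (y ^ 2)⁻¹ := by
  have hc : ∀ g : X, g * (x ^ 2)⁻¹ = (x ^ 2)⁻¹ * g := fun g =>
    Subgroup.mem_center_iff.mp (Subgroup.inv_mem _ hx) g
  have h1 : (x * y) ^ 2 * (x ^ 2)⁻¹ * (y ^ 2)⁻¹ = x * y * x * (y * (x ^ 2)⁻¹) * (y ^ 2)⁻¹ := by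
    simp only [pow_two]; group
  rw [h1, hc y]
  simp only [pow_two]; group

theorem cen (r : X) (hr : r ∈ Om1Z X) (z : X) : z * r = r * z :=
  Subgroup.mem_center_iff.mp hr.1 z

/-- the subgroup `R ∪ uR` for an involution `u` -/
def Eu (u : X) (hu : u * u = 1) : Subgroup X where
  carrier := {g | g ∈ Om1Z X ∨ u * g ∈ Om1Z X}
  one_mem' := Or.inl (Subgroup.one_mem _)
  mul_mem' := by
    intro g h hg hh
    rcases hg with hg | hg <;> rcases hh with hh | hh
    · exact Or.inl (Subgroup.mul_mem _ hg hh)
    · right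
      have : u * (g * h) = g * (u * h) := by
        rw [← mul_assoc, cen g hg u, mul_assoc]
      rw [this]; exact Subgroup.mul_mem _ hg hh
    · right
      rw [← mul_assoc]; exact Subgroup.mul_mem _ hg hh
    · left
      have : g * h = (u * g) * (u * h) := by
        calc g * h = (u * u) * g * h := by rw [hu, one_mul]
          _ = u * ((u * g) * h) := by group
          _ = u * (h * (u * g)) := by rw [cen (u * g) hg h]
          _ = (u * h) * (u * g) := by group
          _ = (u * g) * (u * h) := by rw [cen (u * g) hg (u * h)]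
      rw [this]; exact Subgroup.mul_mem _ hg hh
  inv_mem' := by
    intro g hg
    rcases hg with hg | hg
    · exact Or.inl (Subgroup.inv_mem _ hg)
    · right
      have h1 : (u * g) * (u * g⁻¹) = 1 := by
        calc (u * g) * (u * g⁻¹) = ((u * g) * u) * g⁻¹ := by group
          _ = (u * (u * g)) * g⁻¹ := by rw [cen (u * g) hg u]
          _ = (u * u) * (g * g⁻¹) := by group
          _ = 1 := by rw [hu, mul_inv_cancel, one_mul]
      have : u * g⁻¹ = (u * g)⁻¹ := eq_inv_of_mul_eq_one_right h1
      rw [this]; exact Subgroup.inv_mem _ hg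

theorem mem_Eu {u : X} (hu : u * u = 1) {g : X} : g ∈ Eu u hu ↔ g ∈ Om1Z X ∨ u * g ∈ Om1Z X := Iff.rfl

theorem Eu_sq {u : X} (hu : u * u = 1) : ∀ e ∈ Eu u hu, e ^ 2 = 1 := by
  intro e he
  rcases he with he | he
  · exact he.2
  · -- e = u * r
    have h1 : (u * e) ^ 2 = 1 := he.2
    have h2 : (u * e) ^ 2 = e ^ 2 := by
      calc (u * e) ^ 2 = (u * e) * (u * e) := pow_two _
        _ = ((u * e) * u) * e := by group
        _ = (u * (u * e)) * e := by rw [cen (u * e) he u]
        _ = (u * u) * (e * e) := by group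
        _ = e ^ 2 := by rw [hu, one_mul, pow_two]
    rw [← h2]; exact h1

theorem Eu_ab {u : X} (hu : u * u = 1) : Ab (Eu u hu) := by
  -- exponent 2 implies abelian
  intro a ha b hb
  have ha2 := Eu_sq hu a ha
  have hb2 := Eu_sq hu b hb
  have hab2 := Eu_sq hu (a * b) (Subgroup.mul_mem _ ha hb)
  rw [pow_two] at ha2 hb2 hab2
  calc a * b = a * (a * b * (a * b)) * b := by rw [hab2, mul_one]
    _ = (a * a) * (b * a) * (b * b) := by group
    _ = b * a := by rw [ha2, hb2, one_mul, mul_one]

end Q07c

theorem conclB_of [Finite X] (c : Ctx3 A N 2) (hC : Subgroup.centralizer (N : Set X) = N)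
    (hinj : ∀ x : X, (∃ v ∈ N, ¬ ∃ m ∈ N, Ec x v = m ^ 4) →
      ∀ v ∈ N, (∃ m ∈ N, Ec x v = m ^ 4) → ∃ m ∈ N, v = m ^ 2)
    (h64 : Nat.card X = 64) (hsqR : ∀ x : X, x ^ 2 ∈ Om1Z X) : ConclB X := by
  have h2 : IsPGroup 2 X := c.c.hyp.two
  have hRcen : Om1Z X ≤ Subgroup.center X := fun _ h => h.1
  -- commutators lie in R
  have hcommR : commutator X ≤ Om1Z X := by
    rw [commutator_def, Subgroup.commutator_le]
    intro x _ y _
    show x * y * x⁻¹ * y⁻¹ ∈ Om1Z X
    rw [Q07c.comm_eq x y (hRcen (hsqR x))]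
    exact Subgroup.mul_mem _ (Subgroup.mul_mem _ (hsqR _) (Subgroup.inv_mem _ (hsqR _)))
      (Subgroup.inv_mem _ (hsqR _))
  -- commutator X is A-invariant
  have hcinv : Inv A (commutator X) := by
    intro φ _ x hx
    have hchar : (commutator X).Characteristic := inferInstance
    have := Subgroup.characteristic_iff_map_eq.mp hchar φ
    rw [← this]
    exact Subgroup.mem_map_of_mem _ hx
  have hcne : commutator X ≠ ⊥ := by
    intro h
    apply c.c.ncen
    rw [commutator_def, Subgroup.commutator_eq_bot_iff_le_centralizer] at h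
    intro v _
    rw [Subgroup.mem_center_iff]
    intro g
    have hg : g ∈ Subgroup.centralizer ((⊤ : Subgroup X) : Set X) := h (Subgroup.mem_top g)
    exact (Subgroup.mem_centralizer_iff.mp hg v (Subgroup.mem_top v)).symm
  have hcomm : commutator X = Om1Z X := by
    rcases c.irr (commutator X) hcommR hcinv with h | h
    · exact absurd h hcne
    · exact h
  -- the centre
  have hm4 : ∀ m ∈ N, m ^ 4 = 1 := fun m hm => by
    have := c.exp m hm
    norm_num at this
    exact this
  have hcenter : Subgroup.center X = Om1Z X := by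
    apply le_antisymm _ hRcen
    intro z hz
    have hzN : z ∈ N := by
      rw [← hC]
      rw [Subgroup.mem_centralizer_iff]
      intro v _
      exact Subgroup.mem_center_iff.mp hz v
    -- some x, v with Ec x v ≠ 1
    have hex : ∃ x : X, ∃ v ∈ N, Ec x v ≠ 1 := by
      by_contra hcon
      apply c.c.ncen
      intro v hv
      rw [Subgroup.mem_center_iff]
      intro x
      by_contra hxv
      apply hcon
      refine ⟨x, v, hv, ?_⟩
      intro hE
      apply hxv
      unfold Ec at hE
      calc x * v = x * v * (v⁻¹ * x⁻¹ * v * x) := by rw [hE, mul_one]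
        _ = v * x := by group
    obtain ⟨x, v, hv, hEv⟩ := hex
    have hpre : ∃ v ∈ N, ¬ ∃ m ∈ N, Ec x v = m ^ 4 := by
      refine ⟨v, hv, ?_⟩
      rintro ⟨m, hm, hEm⟩
      rw [hm4 m hm] at hEm
      exact hEv hEm
    have hEz : Ec x z = 1 := by
      unfold Ec
      have := Subgroup.mem_center_iff.mp hz x⁻¹
      calc z⁻¹ * x⁻¹ * z * x = z⁻¹ * (x⁻¹ * z) * x := by group
        _ = z⁻¹ * (z * x⁻¹) * x := by rw [this]
        _ = 1 := by group
    obtain ⟨m, hm, hzm⟩ := hinj x hpre z hzN ⟨1, Subgroup.one_mem _, by rw [hEz, one_pow]⟩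
    refine ⟨hz, ?_⟩
    rw [hzm, ← pow_mul]
    exact hm4 m hm
  -- frattini
  have hfr : frattini X = Om1Z X := by
    apply le_antisymm
    · exact Cfsg.Agent.Lib.Helper1.frattini_le_of_commutator_le_of_pow_mem (p := 2) (Om1Z X) hcommR hsqR
    · rw [← hcomm]
      exact Cfsg.Agent.Lib.Helper1.IsPGroup.commutator_le_frattini h2
  -- involutions
  have hinvol : ∀ u : X, orderOf u = 2 → u ∈ Om1Z X := by
    intro u hu
    have huu : u * u = 1 := by
      rw [← pow_two, ← hu]; exact pow_orderOf_eq_one u
    have hEn : (Q07c.Eu u huu).Normal := by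
      apply Subgroup.Normal.of_commutator_le
      rw [hcomm]
      intro r hr
      exact Or.inl hr
    have hle : Nat.card (Q07c.Eu u huu) ≤ 4 :=
      c.c.hyp.rk (Q07c.Eu u huu) hEn (Q07c.Eu_ab huu) (Q07c.Eu u huu) le_rfl (Q07c.Eu_sq huu)
    have hRE : Om1Z X ≤ Q07c.Eu u huu := fun r hr => Or.inl hr
    have heq : Om1Z X = Q07c.Eu u huu :=
      Subgroup.eq_of_le_of_card_ge hRE (by rw [c.R4]; exact hle)
    rw [heq]
    right
    rw [huu]; exact Subgroup.one_mem _
  refine ⟨⟨h2, hfr.trans hcenter.symm, hcomm.trans hcenter.symm⟩, h64, ?_, ?_⟩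
  · -- count
    have hset : {x : X | orderOf x = 2} = ((Om1Z X : Subgroup X) : Set X) \ {1} := by
      ext x
      constructor
      · intro hx
        refine ⟨hinvol x hx, ?_⟩
        intro h1
        rw [Set.mem_singleton_iff] at h1
        have hx' : orderOf x = 2 := hx
        rw [h1, orderOf_one] at hx'
        exact absurd hx' (by norm_num)
      · rintro ⟨hxR, hx1⟩
        have hx2 : x ^ 2 = 1 := hxR.2
        exact orderOf_eq_prime hx2 hx1
    have h1 : Nat.card {x : X // orderOf x = 2} = Set.ncard {x : X | orderOf x = 2} :=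
      Nat.card_coe_set_eq _
    rw [h1, hset, Set.ncard_sdiff_singleton_of_mem (Subgroup.one_mem _)]
    have h2' : Set.ncard ((Om1Z X : Subgroup X) : Set X) = Nat.card (Om1Z X) :=
      (Nat.card_coe_set_eq _).symm
    rw [h2', c.R4]
  · intro x hx
    exact hRcen (hinvol x hx)


end Cfsg.Agent.Lib.Helper12.SC3.PC2
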