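import Cfsg.Agent.Lib.Helper12.SC3.PC2.Defs
import Cfsg.Agent.Lib.Helper12.SC3.PC2.Q06m
import Cfsg.Agent.Lib.Helper8.SC3G6

/-!
# S1904 farm — PART PC2 sub-farm (architect helper12) — leaf Q08a
Paper proof: `SC3/Blueprint.lean`, Case 2.  Definitions: `SC3/Defs.lean`, `SC3/PC2/Defs.lean`; shared lemmas (G2,G3,G4) in `SC3/G.lean` may be used as black boxes.
FILLED by helper2 (17:50Z, imports `Q06m` [exists_mover] and `Lib/Helper8/SC3G6` [mem_four]).  Only replace the `sorry`; names / statements / namespace verbatim; aux lemmas with fresh names in sub-namespace `Q08a`.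

RECIPE.  Blueprint (2.5), choice of `x`.  `X ≠ N` (as in `card_64`).  `P̂ = Ω₁(Z(X/N)) ≠ 1` is `A`-invariant, elementary abelian; in terms of `X`: `P = {x | x² ∈ N ∧ ∀ g, x g x⁻¹ g⁻¹ ∈ N}`.
Every `φ ∈ A` fixing `Om1Z X` pointwise fixes `N` pointwise (`fix_of_fix_involutions`), hence `x⁻¹ φ(x) ∈ centralizer N = N` for all `x` (both `v` and `x⁻¹ v x` are `φ`-fixed): such `φ` act trivially on `X/N`.
Take `a ∈ A` moving all involutions of `Om1Z X` (`exists_mover`, leaf `Q06m`; re-prove or import): `a³` and every `φ ∈ A` acts on `Om1Z X` like a power of `a`, so `A` acts on `X/N` through `⟨a⟩` with `a³` trivial.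
If some `x ∈ P ∖ N` is fixed by `a` modulo `N`, it is fixed by `A` modulo `N`: first alternative.  Otherwise for any `x ∈ P ∖ N` the element `x · a(x) · a²(x)` (in the abelian `P/N`) is `a`-fixed modulo `N`, so lies in `N`: second alternative.
-/

set_option autoImplicit false

namespace Cfsg.Agent.Lib.Helper12.SC3.PC2

variable {X : Type*} [Group X] {A : Subgroup (MulAut X)} {N : Subgroup X} {n : ℕ}

namespace Q08a

theorem map_mem_Om1Z (φ : MulAut X) {r : X} (hr : r ∈ Om1Z X) : φ r ∈ Om1Z X := by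
  rw [mem_Om1Z] at hr ⊢
  refine ⟨?_, by rw [← map_pow, hr.2, map_one]⟩
  rw [Subgroup.mem_center_iff]
  intro g
  have h1 := Subgroup.mem_center_iff.mp hr.1 (φ⁻¹ g)
  have h2 := congrArg φ h1
  rw [map_mul, map_mul, MulAut.apply_inv_self] at h2
  exact h2

/-- restriction of an automorphism to `Om1Z X` -/
def restrHom (φ : MulAut X) : ↥(Om1Z X) →* ↥(Om1Z X) where
  toFun r := ⟨φ r, map_mem_Om1Z φ r.2⟩
  map_one' := by ext; simp
  map_mul' := by intro a b; ext; simp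

theorem restrHom_bij (φ : MulAut X) : Function.Bijective (restrHom φ) := by
  constructor
  · intro a b hab
    have h := congrArg Subtype.val hab
    simp only [restrHom, MonoidHom.coe_mk, OneHom.coe_mk] at h
    exact Subtype.ext (φ.injective h)
  · intro r
    refine ⟨⟨φ⁻¹ r, map_mem_Om1Z φ⁻¹ r.2⟩, ?_⟩
    ext
    simp [restrHom]

noncomputable def restr (φ : MulAut X) : ↥(Om1Z X) ≃* ↥(Om1Z X) :=
  MulEquiv.ofBijective (restrHom φ) (restrHom_bij φ)

theorem restr_apply (φ : MulAut X) (r : ↥(Om1Z X)) : ((restr φ r : ↥(Om1Z X)) : X) = φ r := rfl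

theorem four (h4 : Nat.card (Om1Z X) = 4) (a : MulAut X) (ha : ∀ r ∈ Om1Z X, a r = r → r = 1)
    {v : X} (hv : v ∈ Om1Z X) (hv1 : v ≠ 1) {r : X} (hr : r ∈ Om1Z X) :
    r = 1 ∨ r = v ∨ r = a v ∨ r = v * a v := by
  have e : ∀ u : ↥(Om1Z X), u ^ 2 = 1 := fun u => Subtype.ext (by simpa using (mem_Om1Z.mp u.2).2)
  have f : ∀ u : ↥(Om1Z X), restr a u = u → u = 1 := by
    intro u hu
    have h := congrArg Subtype.val hu
    rw [restr_apply] at h
    exact Subtype.ext (ha u u.2 h)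
  have hv1' : (⟨v, hv⟩ : ↥(Om1Z X)) ≠ 1 := fun h => hv1 (congrArg Subtype.val h)
  rcases Cfsg.Agent.Lib.Helper8.SC3G6.mem_four h4 e (restr a) f ⟨v, hv⟩ hv1' ⟨r, hr⟩ with h | h | h | h
  · exact Or.inl (congrArg Subtype.val h)
  · exact Or.inr (Or.inl (congrArg Subtype.val h))
  · exact Or.inr (Or.inr (Or.inl (congrArg Subtype.val h)))
  · exact Or.inr (Or.inr (Or.inr (congrArg Subtype.val h)))

theorem pow_fix (σ : MulAut X) {u : X} (h : σ u = u) (k : ℕ) : (σ ^ k) u = u := by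
  induction k with
  | zero => simp
  | succ k ih => rw [pow_succ, MulAut.mul_apply, h, ih]

theorem comm_R {r s : X} (hr : r ∈ Om1Z X) : r * s = s * r :=
  (Subgroup.mem_center_iff.mp (mem_Om1Z.mp hr).1 s).symm

theorem sq_R {r : X} (hr : r ∈ Om1Z X) : r * r = 1 := by
  have := (mem_Om1Z.mp hr).2
  rwa [pow_two] at this

/-- an odd-order automorphism fixing one involution of the four-group `Om1Z X` fixes all of it -/
theorem fix_all (h4 : Nat.card (Om1Z X) = 4) (a : MulAut X) (ha : ∀ r ∈ Om1Z X, a r = r → r = 1)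
    (ψ : MulAut X) (hodd : Odd (orderOf ψ)) {v : X} (hv : v ∈ Om1Z X) (hv1 : v ≠ 1) (hψ : ψ v = v) :
    ∀ r ∈ Om1Z X, ψ r = r := by
  have hw : a v ∈ Om1Z X := map_mem_Om1Z a hv
  have hw1 : a v ≠ 1 := fun h => hv1 (by simpa using congrArg (a⁻¹) h)
  have hwv : a v ≠ v := fun h => hv1 (ha v hv h)
  have hψw : ψ (a v) ∈ Om1Z X := map_mem_Om1Z ψ hw
  have key : ψ (a v) = a v := by
    rcases four h4 a ha hv hv1 hψw with h | h | h | h
    · exact absurd (by simpa using congrArg (ψ⁻¹) h) hw1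
    · have : ψ (a v) = ψ v := by rw [h, hψ]
      exact absurd (ψ.injective this) hwv
    · exact h
    · exfalso
      -- ψ swaps a v and v * a v
      have h2 : ψ (v * a v) = a v := by
        rw [map_mul, hψ, h, ← mul_assoc, sq_R hv, one_mul]
      have h3 : (ψ * ψ) (v * a v) = v * a v := by
        rw [MulAut.mul_apply, h2, h]
      obtain ⟨k, hk⟩ := hodd
      have h4' : (ψ ^ (2 * k + 1)) (a v) = v * a v := by
        rw [pow_succ, MulAut.mul_apply, h, pow_mul, pow_two]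
        exact pow_fix _ h3 k
      rw [← hk, pow_orderOf_eq_one] at h4'
      have : a v = v * a v := h4'
      have h5 : 1 * a v = v * a v := by rw [one_mul]; exact this
      exact hv1 (mul_right_cancel h5).symm
  intro r hr
  rcases four h4 a ha hv hv1 hr with h | h | h | h
  · rw [h, map_one]
  · rw [h, hψ]
  · rw [h, key]
  · rw [h, map_mul, hψ, key]

theorem odd_orderOf (hodd : Odd (Nat.card A)) {φ : MulAut X} (hφ : φ ∈ A) : Odd (orderOf φ) := by
  have h1 : orderOf (⟨φ, hφ⟩ : A) ∣ Nat.card A := orderOf_dvd_natCard _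
  rw [Subgroup.orderOf_mk] at h1
  exact Odd.of_dvd_nat hodd h1

/-- an element of `A` fixing `Om1Z X` pointwise is trivial on `X/N` -/
theorem triv_mod [Finite X] (c : Ctx3 A N n) (hC : Subgroup.centralizer (N : Set X) = N)
    {φ : MulAut X} (hφ : φ ∈ A) (hfix : ∀ r ∈ Om1Z X, φ r = r) (x : X) : x⁻¹ * φ x ∈ N := by
  have hN : ∀ v ∈ N, φ v = v :=
    fix_of_fix_involutions c.c.hyp.two N c.c.ab φ (odd_orderOf c.c.hyp.odd hφ)
      (fun v hv => c.c.inv φ hφ v hv) (fun v hv h2 => hfix v (c.om v hv h2))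
  have hnorm := c.c.nN
  have h1 : φ x * x⁻¹ ∈ Subgroup.centralizer (N : Set X) := by
    rw [Subgroup.mem_centralizer_iff]
    intro v hv
    have hw : x⁻¹ * v * x ∈ N := by
      have := hnorm.conj_mem v hv x⁻¹
      simpa using this
    have h := hN _ hw
    rw [map_mul, map_mul, hN v hv, map_inv] at h
    -- h : (φ x)⁻¹ * v * φ x = x⁻¹ * v * x
    calc v * (φ x * x⁻¹) = φ x * ((φ x)⁻¹ * v * φ x) * x⁻¹ := by group
      _ = φ x * (x⁻¹ * v * x) * x⁻¹ := by rw [h]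
      _ = φ x * x⁻¹ * v := by group
  rw [hC] at h1
  have := hnorm.conj_mem _ h1 x⁻¹
  simpa [mul_assoc] using this

/-- `P = ` preimage of `Ω₁(Z(X/N))` -/
def P (N : Subgroup X) [N.Normal] : Subgroup X := (Om1Z (X ⧸ N)).comap (QuotientGroup.mk' N)

theorem mem_P [N.Normal] {x : X} :
    x ∈ P N ↔ (x : X ⧸ N) ∈ Subgroup.center (X ⧸ N) ∧ (x : X ⧸ N) ^ 2 = 1 := Iff.rfl

theorem sq_mem [N.Normal] {x : X} (hx : x ∈ P N) : x ^ 2 ∈ N := by
  rw [← QuotientGroup.eq_one_iff, QuotientGroup.mk_pow]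
  exact (mem_P.mp hx).2

theorem comm_mem [N.Normal] {x : X} (hx : x ∈ P N) (g : X) : x * g * x⁻¹ * g⁻¹ ∈ N := by
  rw [← QuotientGroup.eq_one_iff]
  have h := Subgroup.mem_center_iff.mp (mem_P.mp hx).1 (g : X ⧸ N)
  simp only [QuotientGroup.mk_mul, QuotientGroup.mk_inv]
  rw [← h, mul_inv_cancel_right, mul_inv_cancel]

theorem congr_mod [N.Normal] (hinv : Inv A N) {φ : MulAut X} (hφ : φ ∈ A) {u u' : X}
    (h : (u : X ⧸ N) = u') : ((φ u : X) : X ⧸ N) = (φ u' : X) := by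
  rw [QuotientGroup.eq] at h ⊢
  have := hinv φ hφ _ h
  rwa [map_mul, map_inv] at this

theorem P_inv [N.Normal] (hinv : Inv A N) {φ : MulAut X} (hφ : φ ∈ A) {x : X} (hx : x ∈ P N) :
    φ x ∈ P N := by
  rw [mem_P]
  constructor
  · rw [Subgroup.mem_center_iff]
    intro q
    obtain ⟨g, rfl⟩ := QuotientGroup.mk_surjective q
    have h := Subgroup.mem_center_iff.mp (mem_P.mp hx).1 ((φ⁻¹ g : X) : X ⧸ N)
    rw [← QuotientGroup.mk_mul, ← QuotientGroup.mk_mul] at h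
    have h2 := congr_mod hinv hφ h
    rw [map_mul, map_mul, MulAut.apply_inv_self] at h2
    simpa using h2
  · rw [← QuotientGroup.mk_pow, QuotientGroup.eq_one_iff, ← map_pow]
    exact hinv φ hφ _ (sq_mem hx)

theorem exists_Om1Z_ne_one {Q : Type*} [Group Q] [Finite Q] [Nontrivial Q] (h : IsPGroup 2 Q) :
    ∃ q ∈ Om1Z Q, q ≠ 1 := by
  have := h.center_nontrivial
  obtain ⟨z, hz⟩ := exists_ne (1 : Subgroup.center Q)
  obtain ⟨k, hk⟩ := (IsPGroup.iff_orderOf.mp h) (z : Q)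
  have hz1 : (z : Q) ≠ 1 := fun h => hz (Subtype.ext h)
  have hk0 : k ≠ 0 := by
    rintro rfl
    rw [pow_zero, orderOf_eq_one_iff] at hk
    exact hz1 hk
  obtain ⟨k, rfl⟩ := Nat.exists_eq_succ_of_ne_zero hk0
  refine ⟨(z : Q) ^ (2 ^ k), ⟨Subgroup.pow_mem _ z.2 _, ?_⟩, ?_⟩
  · rw [← pow_mul, ← pow_succ, ← hk, pow_orderOf_eq_one]
  · apply pow_ne_one_of_lt_orderOf (by positivity)
    rw [hk]
    exact Nat.pow_lt_pow_right (by norm_num) (Nat.lt_succ_self k)

theorem exists_P_not_N [Finite X] (c : Ctx3 A N n) [N.Normal] : ∃ x ∈ P N, x ∉ N := by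
  -- N ≠ ⊤
  have hg : ∃ g : X, g ∉ N := by
    by_contra hall
    push_neg at hall
    apply c.c.ncen
    intro v _
    rw [Subgroup.mem_center_iff]
    intro g
    exact c.c.ab g (hall g) v (hall v)
  obtain ⟨g, hg⟩ := hg
  haveI : Nontrivial (X ⧸ N) :=
    nontrivial_of_ne (g : X ⧸ N) 1 (fun h => hg ((QuotientGroup.eq_one_iff g).mp h))
  obtain ⟨q, hq, hq1⟩ := exists_Om1Z_ne_one (c.c.hyp.two.to_quotient N)
  obtain ⟨x, rfl⟩ := QuotientGroup.mk_surjective q
  exact ⟨x, hq, fun hx => hq1 ((QuotientGroup.eq_one_iff x).mpr hx)⟩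

theorem exists_ne_one_R (h4 : Nat.card (Om1Z X) = 4) : ∃ v ∈ Om1Z X, v ≠ 1 := by
  by_contra hall
  push_neg at hall
  have : Om1Z X = ⊥ := (Subgroup.eq_bot_iff_forall _).mpr hall
  rw [this, Subgroup.card_bot] at h4
  norm_num at h4

/-- `a (a v) = v * a v` -/
theorem aa_eq (h4 : Nat.card (Om1Z X) = 4) (a : MulAut X) (ha : ∀ r ∈ Om1Z X, a r = r → r = 1)
    {v : X} (hv : v ∈ Om1Z X) (hv1 : v ≠ 1) : a (a v) = v * a v := by
  have hw : a v ∈ Om1Z X := map_mem_Om1Z a hv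
  have hwv : a v ≠ v := fun h => hv1 (ha v hv h)
  rcases four h4 a ha hv hv1 (map_mem_Om1Z a hw) with h | h | h | h
  · exfalso
    have h1 : a v = 1 := by simpa using congrArg (a⁻¹) h
    exact hv1 (by simpa using congrArg (a⁻¹) h1)
  · exfalso
    have h1 : a (v * a v) = v * a v := by rw [map_mul, h, comm_R hw]
    have h2 := ha _ (mul_mem hv hw) h1
    have h3 : v * a v = v * v := by rw [h2, sq_R hv]
    exact hwv (mul_left_cancel h3)
  · exfalso
    exact hwv (a.injective h)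
  · exact h

theorem aaa_eq (h4 : Nat.card (Om1Z X) = 4) (a : MulAut X) (ha : ∀ r ∈ Om1Z X, a r = r → r = 1)
    {v : X} (hv : v ∈ Om1Z X) (hv1 : v ≠ 1) : a (a (a v)) = v := by
  have hw : a v ∈ Om1Z X := map_mem_Om1Z a hv
  rw [aa_eq h4 a ha hv hv1, map_mul, aa_eq h4 a ha hv hv1, comm_R hw, mul_assoc, sq_R hw, mul_one]

/-- fixed by the mover modulo `N` implies fixed by `A` modulo `N` -/
theorem fixed_all [Finite X] (c : Ctx3 A N n) (hC : Subgroup.centralizer (N : Set X) = N) [N.Normal]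
    {a : MulAut X} (haA : a ∈ A) (ha : ∀ r ∈ Om1Z X, a r = r → r = 1) {x : X} (hxa : x⁻¹ * a x ∈ N)
    {φ : MulAut X} (hφ : φ ∈ A) : x⁻¹ * φ x ∈ N := by
  have h4 := c.R4
  obtain ⟨v, hv, hv1⟩ := exists_ne_one_R h4
  have hxa' : (x : X ⧸ N) = (a x : X) := QuotientGroup.eq.mpr hxa
  have hφv : φ v ∈ Om1Z X := map_mem_Om1Z φ hv
  have hφv1 : φ v ≠ 1 := fun h => hv1 (by simpa using congrArg (φ⁻¹) h)
  rw [← QuotientGroup.eq]
  rcases four h4 a ha hv hv1 hφv with h | h | h | h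
  · exact absurd h hφv1
  · have hfix := fix_all h4 a ha φ (odd_orderOf c.c.hyp.odd hφ) hv hv1 h
    exact QuotientGroup.eq.mpr (triv_mod c hC hφ hfix x)
  · -- φ v = a v
    have hψA : a⁻¹ * φ ∈ A := mul_mem (inv_mem haA) hφ
    have hψv : (a⁻¹ * φ) v = v := by rw [MulAut.mul_apply, h, MulAut.inv_apply_self]
    have hfix := fix_all h4 a ha _ (odd_orderOf c.c.hyp.odd hψA) hv hv1 hψv
    have h1 : (x : X ⧸ N) = ((a⁻¹ * φ) x : X) := QuotientGroup.eq.mpr (triv_mod c hC hψA hfix x)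
    have h2 := congr_mod c.c.inv haA h1
    rw [MulAut.mul_apply, MulAut.apply_inv_self] at h2
    rw [hxa', h2]
  · -- φ v = v * a v = a (a v)
    rw [← aa_eq h4 a ha hv hv1] at h
    have hψA : a⁻¹ * a⁻¹ * φ ∈ A := mul_mem (mul_mem (inv_mem haA) (inv_mem haA)) hφ
    have hψv : (a⁻¹ * a⁻¹ * φ) v = v := by
      rw [MulAut.mul_apply, MulAut.mul_apply, h, MulAut.inv_apply_self, MulAut.inv_apply_self]
    have hfix := fix_all h4 a ha _ (odd_orderOf c.c.hyp.odd hψA) hv hv1 hψv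
    have h1 : (x : X ⧸ N) = ((a⁻¹ * a⁻¹ * φ) x : X) := QuotientGroup.eq.mpr (triv_mod c hC hψA hfix x)
    have h2 := congr_mod c.c.inv haA (congr_mod c.c.inv haA h1)
    rw [MulAut.mul_apply, MulAut.mul_apply, MulAut.apply_inv_self, MulAut.apply_inv_self] at h2
    have h3 := congr_mod c.c.inv haA hxa'
    rw [hxa', h3, h2]

end Q08a

open Q08a in
theorem exists_x [Finite X] (c : Ctx3 A N n) (hC : Subgroup.centralizer (N : Set X) = N) :
    ∃ x : X, x ∉ N ∧ x ^ 2 ∈ N ∧ (∀ g : X, x * g * x⁻¹ * g⁻¹ ∈ N) ∧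
      ((∀ φ ∈ A, x⁻¹ * φ x ∈ N) ∨
        (∃ a ∈ A, (∀ r ∈ Om1Z X, a r = r → r = 1) ∧ x * a x * a (a x) ∈ N)) := by
  classical
  have := c.c.nN
  obtain ⟨a, haA, ha⟩ := exists_mover c
  obtain ⟨x0, hx0P, hx0N⟩ := exists_P_not_N c
  by_cases hfix : ∃ x ∈ P N, x ∉ N ∧ x⁻¹ * a x ∈ N
  · obtain ⟨x, hxP, hxN, hxa⟩ := hfix
    exact ⟨x, hxN, sq_mem hxP, comm_mem hxP, Or.inl (fun φ hφ => fixed_all c hC haA ha hxa hφ)⟩
  · push_neg at hfix
    refine ⟨x0, hx0N, sq_mem hx0P, comm_mem hx0P, Or.inr ⟨a, haA, ha, ?_⟩⟩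
    by_contra hy
    have h1P : a x0 ∈ P N := P_inv c.c.inv haA hx0P
    have h2P : a (a x0) ∈ P N := P_inv c.c.inv haA h1P
    have hyP : x0 * a x0 * a (a x0) ∈ P N := mul_mem (mul_mem hx0P h1P) h2P
    apply hfix _ hyP hy
    -- a³ is trivial modulo N
    have h4 := c.R4
    obtain ⟨v, hv, hv1⟩ := exists_ne_one_R h4
    have h3A : a * a * a ∈ A := mul_mem (mul_mem haA haA) haA
    have h3v : (a * a * a) v = v := by
      rw [MulAut.mul_apply, MulAut.mul_apply]; exact aaa_eq h4 a ha hv hv1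
    have h3fix := fix_all h4 a ha _ (odd_orderOf c.c.hyp.odd h3A) hv hv1 h3v
    have h3 : (x0 : X ⧸ N) = ((a * a * a) x0 : X) := QuotientGroup.eq.mpr (triv_mod c hC h3A h3fix x0)
    rw [MulAut.mul_apply, MulAut.mul_apply] at h3
    rw [← QuotientGroup.eq]
    simp only [map_mul, QuotientGroup.mk_mul]
    rw [← h3]
    have hc := Subgroup.mem_center_iff.mp (mem_P.mp hx0P).1
    rw [mul_assoc, hc]
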