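import Cfsg.Agent.Lib.Helper12.SC3.PC2.Defs

/-!
# S1904 farm — PART PC2 sub-farm (architect helper12) — leaf Q08b
Paper proof: `SC3/Blueprint.lean`, Case 2.  Definitions: `SC3/Defs.lean`, `SC3/PC2/Defs.lean`; shared lemmas (G2,G3,G4) in `SC3/G.lean` may be used as black boxes.
Only replace the `sorry`; names / statements / namespace verbatim; aux lemmas with fresh names in sub-namespace `Q08b`.

RECIPE.  Blueprint (2.5), exclusion of `k = 1`.  Suppose some `Ec x v` is not a 4th power.  By `hinj` the induced map `Ē : N/N₁ → N₁/N₂` is injective, hence bijective (both of order 4: `c.card`, `c.div`).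
`x² ∈ N` acts trivially on `N`, so `x⁻¹(x⁻¹ v x)x = v`, which gives `Ec x (Ec x v) = (Ec x v)⁻²` (`Ec x` is multiplicative on `N`).  Given `w ∈ N`: `w² = Ec x v · m⁴` (surjectivity), `w' = w m⁻²`, `w'² = Ec x v`,
`(Ec x w')² = Ec x (w'²) = w'⁻⁴`, so `Ec x w' · w'²` is an involution of `N`, in `Om1Z X ⊆ N₂` (`n ≥ 3`: `c.div` with `k = 1`, `n - 1 ≥ 2`), so `Ec x w' ≡ w'⁻² ≡ w² (mod N₂)` and `Ec x w ≡ Ec x w'` (`Ec x (m²) = (Ec x m)² ∈ N₂`).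
Hence `Ec x w ∈ w² N₂` for all `w`: against `hS`.
-/

set_option autoImplicit false

namespace Cfsg.Agent.Lib.Helper12.SC3.PC2

variable {X : Type*} [Group X] {A : Subgroup (MulAut X)} {N : Subgroup X} {n : ℕ}

namespace Q08b

theorem Ec_mem (hN : N.Normal) (x : X) {v : X} (hv : v ∈ N) : Ec x v ∈ N := by
  have h1 : x⁻¹ * v * x ∈ N := by
    have := hN.conj_mem v hv x⁻¹
    rwa [inv_inv] at this
  have : Ec x v = v⁻¹ * (x⁻¹ * v * x) := by unfold Ec; group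
  rw [this]
  exact N.mul_mem (N.inv_mem hv) h1

theorem Ec_mul (hN : N.Normal) (hab : Ab N) (x : X) {v w : X} (hv : v ∈ N) (hw : w ∈ N) :
    Ec x (v * w) = Ec x v * Ec x w := by
  have hv' : Ec x v ∈ N := Ec_mem hN x hv
  have h1 : Ec x (v * w) = w⁻¹ * Ec x v * (x⁻¹ * w * x) := by unfold Ec; group
  have h2 : w⁻¹ * Ec x v = Ec x v * w⁻¹ := hab _ (N.inv_mem hw) _ hv'
  rw [h1, h2]; unfold Ec; group

theorem Ec_one (x : X) : Ec x 1 = 1 := by unfold Ec; group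

theorem Ec_inv (hN : N.Normal) (hab : Ab N) (x : X) {v : X} (hv : v ∈ N) :
    Ec x v⁻¹ = (Ec x v)⁻¹ := by
  have h := Ec_mul hN hab x hv (N.inv_mem hv)
  rw [mul_inv_cancel, Ec_one] at h
  exact (eq_inv_of_mul_eq_one_right h.symm)

theorem Ec_pow (hN : N.Normal) (hab : Ab N) (x : X) {v : X} (hv : v ∈ N) (k : ℕ) :
    Ec x (v ^ k) = (Ec x v) ^ k := by
  induction k with
  | zero => simp [Ec_one]
  | succ k ih => rw [pow_succ, Ec_mul hN hab x (N.pow_mem hv k) hv, ih, pow_succ]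

theorem Ec_Ec (hN : N.Normal) (hab : Ab N) (x : X) (hx2 : x ^ 2 ∈ N) {v : X} (hv : v ∈ N) :
    Ec x (Ec x v) = ((Ec x v) ^ 2)⁻¹ := by
  have hx2v : (x ^ 2)⁻¹ * v * x ^ 2 = v := by
    have := hab _ hx2 _ hv
    rw [mul_assoc, ← this, ← mul_assoc, inv_mul_cancel, one_mul]
  have key : (x ^ 2)⁻¹ * v * x ^ 2 = v * (Ec x v) ^ 2 * Ec x (Ec x v) := by
    have e1 : (x ^ 2)⁻¹ * v * x ^ 2 = x⁻¹ * x⁻¹ * v * x * x := by
      rw [pow_two, mul_inv_rev]; group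
    have e2 : v * (Ec x v) ^ 2 * Ec x (Ec x v) = v * (Ec x v * Ec x v) * Ec x (Ec x v) := by rw [pow_two]
    rw [e1, e2]; unfold Ec; group
  rw [hx2v] at key
  have h1 : (Ec x v) ^ 2 * Ec x (Ec x v) = 1 := by
    have : v * ((Ec x v) ^ 2 * Ec x (Ec x v)) = v * 1 := by rw [mul_one, ← mul_assoc]; exact key.symm
    exact mul_left_cancel this
  exact eq_inv_of_mul_eq_one_right h1

end Q08b

theorem level_two [Finite X] (c : Ctx3 A N n) (hn : 3 ≤ n) (x : X) (hx2 : x ^ 2 ∈ N)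
    (hsq : ∀ v ∈ N, ∃ m ∈ N, Ec x v = m ^ 2)
    (hinj : (∃ v ∈ N, ¬ ∃ m ∈ N, Ec x v = m ^ 4) →
      ∀ v ∈ N, (∃ m ∈ N, Ec x v = m ^ 4) → ∃ m ∈ N, v = m ^ 2)
    (hS : ¬ (∀ v ∈ N, ∃ m ∈ N, Ec x v = v ^ 2 * m ^ 4)) :
    ∀ v ∈ N, ∃ m ∈ N, Ec x v = m ^ 4 := by
  by_contra hcon
  push Not at hcon
  obtain ⟨v₀, hv₀, hv₀'⟩ := hcon
  have hI := hinj ⟨v₀, hv₀, by push Not; exact hv₀'⟩
  have hN := c.c.nN
  have hab := c.c.ab
  apply hS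
  intro w hw
  obtain ⟨m, hm, hEm⟩ := hsq w hw
  have ht : m * w⁻¹ ∈ N := N.mul_mem hm (N.inv_mem hw)
  have hcmw : Commute m w⁻¹ := hab _ hm _ (N.inv_mem hw)
  have ht2 : (m * w⁻¹) ^ 2 = Ec x w * (w ^ 2)⁻¹ := by
    rw [hcmw.mul_pow, hEm, inv_pow]
  have hEw : Ec x w ∈ N := Q08b.Ec_mem hN x hw
  have hEt2 : (Ec x (m * w⁻¹)) ^ 2 = ((m ^ 8))⁻¹ := by
    rw [← Q08b.Ec_pow hN hab x ht 2, ht2, Q08b.Ec_mul hN hab x hEw (N.inv_mem (N.pow_mem hw 2)),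
      Q08b.Ec_Ec hN hab x hx2 hw, Q08b.Ec_inv hN hab x (N.pow_mem hw 2), Q08b.Ec_pow hN hab x hw 2, hEm,
      ← mul_inv_rev, ← pow_mul, ← pow_add]
  have hEt : Ec x (m * w⁻¹) ∈ N := Q08b.Ec_mem hN x ht
  have hrN : Ec x (m * w⁻¹) * m ^ 4 ∈ N := N.mul_mem hEt (N.pow_mem hm 4)
  have hr2 : (Ec x (m * w⁻¹) * m ^ 4) ^ (2 ^ 1) = 1 := by
    have hc : Commute (Ec x (m * w⁻¹)) (m ^ 4) := hab _ hEt _ (N.pow_mem hm 4)
    rw [pow_one, hc.mul_pow, hEt2, ← pow_mul, inv_mul_cancel]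
  obtain ⟨u, hu, hru⟩ := c.div 1 (by omega) _ hrN hr2
  have hpow : 2 ^ (n - 1) = 2 ^ (n - 3) * 4 := by
    have : n - 1 = (n - 3) + 2 := by omega
    rw [this, pow_add]; norm_num
  have hEt4 : Ec x (m * w⁻¹) = (u ^ (2 ^ (n - 3)) * m⁻¹) ^ 4 := by
    have hc : Commute (u ^ (2 ^ (n - 3))) m⁻¹ := hab _ (N.pow_mem hu _) _ (N.inv_mem hm)
    rw [hc.mul_pow, ← pow_mul, ← hpow, ← hru, inv_pow, mul_inv_cancel_right]
  obtain ⟨m', hm', htm'⟩ := hI _ ht ⟨_, N.mul_mem (N.pow_mem hu _) (N.inv_mem hm), hEt4⟩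
  refine ⟨m', hm', ?_⟩
  have h1 : Ec x w = (m * w⁻¹) ^ 2 * w ^ 2 := by
    rw [ht2, inv_mul_cancel_right]
  have hc2 : Commute ((m') ^ 4) (w ^ 2) := hab _ (N.pow_mem hm' 4) _ (N.pow_mem hw 2)
  rw [h1, htm', ← pow_mul, hc2.eq]

end Cfsg.Agent.Lib.Helper12.SC3.PC2
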