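import Cfsg.Agent.Lib.Helper12.SC3.PC2.Defs

/-!
# S1904 farm — PART PC2 sub-farm (architect helper12) — leaf Q08c
Paper proof: `SC3/Blueprint.lean`, Case 2.  Definitions: `SC3/Defs.lean`, `SC3/PC2/Defs.lean`; shared lemmas (G2,G3,G4) in `SC3/G.lean` may be used as black boxes.
Only replace the `sorry`; names / statements / namespace verbatim; aux lemmas with fresh names in sub-namespace `Q08c`.

RECIPE.  Blueprint (2.5), the climb.  Claim by induction on `k` (`2 ≤ k ≤ n-1`): `∀ v ∈ N, ∃ m ∈ N, Ec x v = m^(2^k)`.  Step `k → k+1` (`k+1 ≤ n-1`): `Ec x` is multiplicative on `N`, so `Ec x (m^(2^k)) = (Ec x m)^(2^k)`, a `2^(2k)`-th power;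
`Ec x (Ec x v) = (Ec x v)⁻²` (`x² ∈ N` acts trivially on `N`); so `u = Ec x v` has `u² = m'^(2^(2k))`, `2k ≥ k+2`; then `u · m'^(-2^(2k-1))` is an involution of `N`, which is a `2^(n-1)`-th power (`c.div`, `k = 1`), and `2k-1 ≥ k+1`, `n-1 ≥ k+1`: `u` is a `2^(k+1)`-th power.
At `k = n-1`: `(m^(2^(n-1)))² = 1`, so `Ec x v ∈ Om1Z X` (`c.om`).
-/

set_option autoImplicit false

namespace Cfsg.Agent.Lib.Helper12.SC3.PC2

variable {X : Type*} [Group X] {A : Subgroup (MulAut X)} {N : Subgroup X} {n : ℕ}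

namespace Q08c

/-- conjugation by `x⁻¹` on the normal subgroup `N` -/
def sig (N : Subgroup X) (hN : N.Normal) (x : X) : N →* N where
  toFun v := ⟨x⁻¹ * v * x, by
    have := hN.conj_mem v v.2 x⁻¹
    rwa [inv_inv] at this⟩
  map_one' := Subtype.ext (by simp)
  map_mul' := fun a b => Subtype.ext (by
    show x⁻¹ * (a * b : X) * x = (x⁻¹ * a * x) * (x⁻¹ * b * x)
    group)

end Q08c

theorem climb [Finite X] (c : Ctx3 A N n) (hn : 3 ≤ n) (x : X) (hx2 : x ^ 2 ∈ N)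
    (h4 : ∀ v ∈ N, ∃ m ∈ N, Ec x v = m ^ 4) : ∀ v ∈ N, Ec x v ∈ Om1Z X := by
  classical
  have hN : N.Normal := c.c.nN
  let _ : CommGroup N :=
    { (inferInstance : Group N) with
      mul_comm := fun a b => Subtype.ext (c.c.ab a a.2 b b.2) }
  let σ : N →* N := Q08c.sig N hN x
  have hσσ : ∀ v : N, σ (σ v) = v := by
    intro v
    apply Subtype.ext
    show x⁻¹ * (x⁻¹ * (v : X) * x) * x = v
    have h1 : x⁻¹ * (x⁻¹ * (v : X) * x) * x = (x ^ 2)⁻¹ * v * x ^ 2 := by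
      rw [pow_two]; group
    rw [h1, c.c.ab _ (N.inv_mem hx2) v v.2, mul_assoc, inv_mul_cancel, mul_one]
  let E : N →* N := (MonoidHom.id N)⁻¹ * σ
  have hE : ∀ v : N, E v = v⁻¹ * σ v := fun v => rfl
  have hEc : ∀ v : N, ((E v : N) : X) = Ec x v := by
    intro v
    show (v : X)⁻¹ * (x⁻¹ * v * x) = (v : X)⁻¹ * x⁻¹ * v * x
    group
  have hEE : ∀ v : N, E (E v) = ((E v)⁻¹) ^ 2 := by
    intro v
    rw [hE (E v), hE v, map_mul, map_inv, hσσ, pow_two]
    simp only [mul_inv_rev, inv_inv]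
  -- the induction
  have key : ∀ j, 2 + j ≤ n - 1 → ∀ v : N, ∃ m : N, E v = m ^ (2 ^ (2 + j)) := by
    intro j
    induction j with
    | zero =>
      intro _ v
      obtain ⟨m, hm, h⟩ := h4 v v.2
      refine ⟨⟨m, hm⟩, Subtype.ext ?_⟩
      rw [hEc, h]
      norm_num
    | succ j ih =>
      intro hj v
      have ih' := ih (by omega)
      obtain ⟨m, hm⟩ := ih' v
      obtain ⟨m', hm'⟩ := ih' m
      have h1 : ((E v)⁻¹) ^ 2 = m' ^ (2 ^ (2 + j) * 2 ^ (2 + j)) := by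
        rw [← hEE, hm, map_pow, hm', ← pow_mul]
      -- the involution
      set t : N := (E v)⁻¹ * (m' ^ (2 ^ (2 * (2 + j) - 1)))⁻¹ with ht
      have ht2 : t ^ 2 = 1 := by
        rw [ht, mul_pow, h1, inv_pow, ← pow_mul, ← pow_add, ← pow_succ]
        have e : 2 * (2 + j) - 1 + 1 = 2 + j + (2 + j) := by omega
        rw [e, mul_inv_cancel]
      obtain ⟨s, hs, hts⟩ := c.div 1 (by omega) t t.2 (by
        have := congrArg (fun a : N => (a : X)) ht2
        simpa using this)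
      have hts' : t = (⟨s, hs⟩ : N) ^ (2 ^ (n - 1)) := Subtype.ext (by simpa using hts)
      have hu : E v = ((⟨s, hs⟩ : N)⁻¹) ^ (2 ^ (n - 1)) * (m'⁻¹) ^ (2 ^ (2 * (2 + j) - 1)) := by
        have h2 : (E v)⁻¹ = t * m' ^ (2 ^ (2 * (2 + j) - 1)) := by
          rw [ht, inv_mul_cancel_right]
        rw [← inv_inv (E v), h2, hts', mul_inv, inv_pow, inv_pow]
      refine ⟨((⟨s, hs⟩ : N)⁻¹) ^ (2 ^ (n - 1 - (2 + (j + 1)))) * (m'⁻¹) ^ (2 ^ j), ?_⟩
      rw [hu, mul_pow, ← pow_mul, ← pow_mul, ← pow_add, ← pow_add]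
      have e1 : n - 1 - (2 + (j + 1)) + (2 + (j + 1)) = n - 1 := by omega
      have e2 : j + (2 + (j + 1)) = 2 * (2 + j) - 1 := by omega
      rw [e1, e2]
  intro v hv
  obtain ⟨m, hm⟩ := key (n - 3) (by omega) ⟨v, hv⟩
  have hsq : (E ⟨v, hv⟩) ^ 2 = 1 := by
    rw [hm, ← pow_mul, ← pow_succ]
    have e : 2 + (n - 3) + 1 = n := by omega
    rw [e]
    exact Subtype.ext (c.exp m m.2)
  have hmem := c.om (E ⟨v, hv⟩ : N) (E ⟨v, hv⟩ : N).2 (by
    have := congrArg (fun a : N => (a : X)) hsq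
    simpa using this)
  rw [hEc] at hmem
  exact hmem

end Cfsg.Agent.Lib.Helper12.SC3.PC2
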