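import Cfsg.Agent.Lib.Helper12.SC3.PC2.Defs

/-!
# S1904 farm — PART PC2 sub-farm (architect helper12) — leaf Q08d
Paper proof: `SC3/Blueprint.lean`, Case 2.  Definitions: `SC3/Defs.lean`, `SC3/PC2/Defs.lean`; shared lemmas (G2,G3,G4) in `SC3/G.lean` may be used as black boxes.
Only replace the `sorry`; names / statements / namespace verbatim; aux lemmas with fresh names in sub-namespace `Q08d`.

RECIPE.  Blueprint (2.5), `C_N(x) = N₁`.  `K = {v ∈ N | Ec x v = 1}` is a subgroup of `N` containing the squares (`Ec x (m²) = (Ec x m)² = 1` by `hR`), `K ≠ N` (`x ∉ N = centralizer N`).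
First alternative: `φ x = x · n_φ` with `n_φ ∈ N`, so `Ec (φ x) = Ec x` on `N` and `φ (Ec x v) = Ec (φ x) (φ v) = Ec x (φ v)`: `K` is `A`-invariant; `hirr` gives `K` = squares.
Second alternative: `Ec (x y) v = Ec y v * Ec x v` when `Ec x v` is central, so `Ec x v * Ec (a x) v * Ec (a (a x)) v = Ec (x · a x · a(a x)) v = 1`, and `Ec (a x) v = a (Ec x (a⁻¹ v))`;
now the argument (G6) of leaf `Q06i` with `V₁ = N/N₁`, `V₂ = Om1Z X`: if `Ec x v = 1` for a non-square `v`, then `Ec x · = 1` on `N`: no.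
-/

set_option autoImplicit false

namespace Cfsg.Agent.Lib.Helper12.SC3.PC2

variable {X : Type*} [Group X] {A : Subgroup (MulAut X)} {N : Subgroup X} {n : ℕ}

namespace Q08d

theorem Ec_mul_left {X : Type*} [Group X] (x y v : X) (hz : Ec x v ∈ Subgroup.center X) :
    Ec (x * y) v = Ec x v * Ec y v := by
  have hc : ∀ g : X, g * Ec x v = Ec x v * g := Subgroup.mem_center_iff.mp hz
  have e1 : x⁻¹ * v * x = v * Ec x v := by simp [Ec, mul_assoc]
  calc Ec (x * y) v = v⁻¹ * y⁻¹ * (x⁻¹ * v * x) * y := by simp [Ec, mul_assoc]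
    _ = v⁻¹ * y⁻¹ * (v * Ec x v) * y := by rw [e1]
    _ = v⁻¹ * y⁻¹ * v * (Ec x v * y) := by simp only [mul_assoc]
    _ = v⁻¹ * y⁻¹ * v * (y * Ec x v) := by rw [hc y]
    _ = Ec y v * Ec x v := by simp only [Ec, mul_assoc]
    _ = Ec x v * Ec y v := hc _

theorem Ec_mul_right {X : Type*} [Group X] (x v w : X) (hz : Ec x v ∈ Subgroup.center X) :
    Ec x (v * w) = Ec x v * Ec x w := by
  have hc : ∀ g : X, g * Ec x v = Ec x v * g := Subgroup.mem_center_iff.mp hz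
  calc Ec x (v * w) = w⁻¹ * (v⁻¹ * x⁻¹ * v * x) * (x⁻¹ * w * x) := by simp [Ec, mul_assoc]
    _ = w⁻¹ * Ec x v * (x⁻¹ * w * x) := rfl
    _ = Ec x v * w⁻¹ * (x⁻¹ * w * x) := by rw [hc w⁻¹]
    _ = Ec x v * Ec x w := by simp only [Ec, mul_assoc]

theorem Ec_N {X : Type*} [Group X] {N : Subgroup X} (hab : Ab N) {y v : X} (hy : y ∈ N)
    (hv : v ∈ N) : Ec y v = 1 := by
  have hcm := hab y hy v hv
  calc Ec y v = v⁻¹ * y⁻¹ * (v * y) := by simp only [Ec, mul_assoc]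
    _ = v⁻¹ * y⁻¹ * (y * v) := by rw [hcm]
    _ = 1 := by group

theorem aut_Om1Z {X : Type*} [Group X] (a : MulAut X) (r : X) (hr : r ∈ Om1Z X) :
    a r ∈ Om1Z X := by
  refine ⟨?_, by rw [← map_pow, hr.2, map_one]⟩
  rw [Subgroup.mem_center_iff]
  intro g
  have h := Subgroup.mem_center_iff.mp hr.1 (a⁻¹ g)
  have := congrArg a h
  rwa [map_mul, map_mul, MulAut.apply_inv_self] at this

theorem four_type {V : Type*} [Group V] (h4 : Nat.card V = 4) (r s : V) (hr : r ≠ 1)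
    (hs : s ≠ 1) (hrs : r ≠ s) (hr2 : r * r = 1) :
    ∀ w : V, w = 1 ∨ w = r ∨ w = s ∨ w = r * s := by
  classical
  have : Finite V := Nat.finite_of_card_ne_zero (by omega)
  have := Fintype.ofFinite V
  intro w
  by_contra hw
  simp only [not_or] at hw
  obtain ⟨hw1, hw2, hw3, hw4⟩ := hw
  have h1 : r * s ≠ 1 := by
    intro h
    apply hrs
    have : r * s = r * r := by rw [h, hr2]
    exact (mul_left_cancel this).symm
  have h2 : r * s ≠ r := by
    intro h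
    apply hs
    have : r * s = r * 1 := by rw [h, mul_one]
    exact mul_left_cancel this
  have h3 : r * s ≠ s := by
    intro h
    apply hr
    have : r * s = 1 * s := by rw [h, one_mul]
    exact mul_right_cancel this
  have hcard : ({1, r, s, r * s, w} : Finset V).card = 5 := by
    rw [Finset.card_insert_of_notMem, Finset.card_insert_of_notMem,
      Finset.card_insert_of_notMem, Finset.card_insert_of_notMem, Finset.card_singleton]
    · simp only [Finset.mem_singleton]; exact fun h => hw4 h.symm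
    · simp only [Finset.mem_insert, Finset.mem_singleton, not_or]
      exact ⟨fun h => h3 h.symm, fun h => hw3 h.symm⟩
    · simp only [Finset.mem_insert, Finset.mem_singleton, not_or]
      exact ⟨hrs, fun h => h2 h.symm, fun h => hw2 h.symm⟩
    · simp only [Finset.mem_insert, Finset.mem_singleton, not_or]
      exact ⟨fun h => hr h.symm, fun h => hs h.symm, fun h => h1 h.symm, fun h => hw1 h.symm⟩
  have := Finset.card_le_univ ({1, r, s, r * s, w} : Finset V)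
  rw [hcard, ← Nat.card_eq_fintype_card, h4] at this
  omega

theorem four_sub {X : Type*} [Group X] (R : Subgroup X) (h4 : Nat.card R = 4) (r s : X)
    (hrR : r ∈ R) (hsR : s ∈ R) (hr : r ≠ 1) (hs : s ≠ 1) (hrs : r ≠ s) (hr2 : r * r = 1) :
    ∀ w ∈ R, w = 1 ∨ w = r ∨ w = s ∨ w = r * s := by
  intro w hw
  have := four_type h4 (⟨r, hrR⟩ : R) ⟨s, hsR⟩ (fun h => hr (congrArg Subtype.val h))
    (fun h => hs (congrArg Subtype.val h)) (fun h => hrs (congrArg Subtype.val h))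
    (Subtype.ext hr2) ⟨w, hw⟩
  rcases this with h | h | h | h
  · exact Or.inl (congrArg Subtype.val h)
  · exact Or.inr (Or.inl (congrArg Subtype.val h))
  · exact Or.inr (Or.inr (Or.inl (congrArg Subtype.val h)))
  · exact Or.inr (Or.inr (Or.inr (congrArg Subtype.val h)))

end Q08d

theorem kernel_eq [Finite X] (c : Ctx3 A N n) (hC : Subgroup.centralizer (N : Set X) = N)
    (hirr : ∀ S : Subgroup X, Inv A S → (∀ v ∈ N, v ^ 2 ∈ S) → S ≤ N → (∀ s ∈ S, ∃ m ∈ N, s = m ^ 2) ∨ S = N)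
    (x : X) (hx : x ∉ N) (hR : ∀ v ∈ N, Ec x v ∈ Om1Z X)
    (alt : (∀ φ ∈ A, x⁻¹ * φ x ∈ N) ∨
      (∃ a ∈ A, (∀ r ∈ Om1Z X, a r = r → r = 1) ∧ x * a x * a (a x) ∈ N)) :
    ∀ v ∈ N, Ec x v = 1 → ∃ m ∈ N, v = m ^ 2 := by
  have hn1 : 1 ≤ n := le_trans (by norm_num) c.two_le
  have hcen : ∀ v ∈ N, Ec x v ∈ Subgroup.center X := fun v hv => (hR v hv).1
  have hmulv : ∀ v ∈ N, ∀ w ∈ N, Ec x (v * w) = Ec x v * Ec x w :=
    fun v hv w _ => Q08d.Ec_mul_right x v w (hcen v hv)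
  have hsq1 : ∀ m ∈ N, Ec x (m ^ 2) = 1 := by
    intro m hm
    rw [pow_two, hmulv m hm m hm, ← pow_two]
    exact (hR m hm).2
  obtain ⟨v₁, hv₁, hv₁ne⟩ : ∃ v₁ ∈ N, Ec x v₁ ≠ 1 := by
    by_contra hcon
    apply hx
    rw [← hC, Subgroup.mem_centralizer_iff]
    intro v hv
    have h1 : Ec x v = 1 := by
      by_contra h
      exact hcon ⟨v, hv, h⟩
    have h1' : v⁻¹ * x⁻¹ * v * x = 1 := h1
    calc v * x = x * (v * (v⁻¹ * x⁻¹ * v * x)) := by group
      _ = x * v := by rw [h1', mul_one]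
  rcases alt with alt | ⟨a, haA, hfpf, hnorm⟩
  · let K : Subgroup X :=
      { carrier := {v | v ∈ N ∧ Ec x v = 1}
        one_mem' := ⟨N.one_mem, by simp [Ec]⟩
        mul_mem' := by
          rintro v w ⟨hv, hv1⟩ ⟨hw, hw1⟩
          exact ⟨N.mul_mem hv hw, by rw [hmulv v hv w hw, hv1, hw1, one_mul]⟩
        inv_mem' := by
          rintro v ⟨hv, hv1⟩
          refine ⟨N.inv_mem hv, ?_⟩
          have := hmulv v hv v⁻¹ (N.inv_mem hv)
          rw [mul_inv_cancel, hv1, one_mul] at this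
          rw [← this]
          simp [Ec] }
    have hKinv : Inv A K := by
      rintro φ hφ v ⟨hv, hv1⟩
      refine ⟨c.c.inv φ hφ v hv, ?_⟩
      have hn : x⁻¹ * φ x ∈ N := alt φ hφ
      have e1 : Ec (φ x) (φ v) = φ (Ec x v) := by simp [Ec]
      have e2 : Ec (φ x) (φ v) = Ec x (φ v) := by
        have : φ x = x * (x⁻¹ * φ x) := by group
        rw [this, Q08d.Ec_mul_left x _ _ (hcen _ (c.c.inv φ hφ v hv)),
          Q08d.Ec_N c.c.ab hn (c.c.inv φ hφ v hv), mul_one]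
      show Ec x (φ v) = 1
      rw [← e2, e1, hv1, map_one]
    rcases hirr K hKinv (fun v hv => ⟨N.pow_mem hv 2, hsq1 v hv⟩) (fun v hv => hv.1) with h | h
    · intro v hv hv1
      exact h v ⟨hv, hv1⟩
    · exfalso
      have : v₁ ∈ K := h ▸ hv₁
      exact hv₁ne this.2
  · intro v₀ hv₀ hev₀
    by_contra hns
    have hRa : ∀ r ∈ Om1Z X, a r ∈ Om1Z X := Q08d.aut_Om1Z a
    have hRsq : ∀ r ∈ Om1Z X, r ^ 2 = 1 := fun r hr => hr.2
    have hRcomm : ∀ r ∈ Om1Z X, ∀ g : X, g * r = r * g :=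
      fun r hr => Subgroup.mem_center_iff.mp hr.1
    have hRinv : ∀ r ∈ Om1Z X, r⁻¹ = r := by
      intro r hr
      rw [inv_eq_iff_mul_eq_one, ← pow_two]
      exact hRsq r hr
    have hPR : ∀ v ∈ N, v ^ (2 ^ (n - 1)) ∈ Om1Z X := by
      intro v hv
      apply c.om _ (N.pow_mem hv _)
      rw [← pow_mul, ← pow_succ, Nat.sub_add_cancel hn1]
      exact c.exp v hv
    have hPmul : ∀ v ∈ N, ∀ w ∈ N, (v * w) ^ (2 ^ (n - 1)) = v ^ (2 ^ (n - 1)) * w ^ (2 ^ (n - 1)) :=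
      fun v hv w hw => (show Commute v w from c.c.ab v hv w hw).mul_pow _
    have hPker : ∀ v ∈ N, v ^ (2 ^ (n - 1)) = 1 → ∃ m ∈ N, v = m ^ 2 := by
      intro v hv h
      obtain ⟨u, hu, e⟩ := c.div (n - 1) (Nat.sub_le n 1) v hv h
      refine ⟨u, hu, ?_⟩
      have h1 : n - (n - 1) = 1 := by omega
      rw [e, h1, pow_one]
    have hPa : ∀ v : X, (a v) ^ (2 ^ (n - 1)) = a (v ^ (2 ^ (n - 1))) := fun v => (map_pow a v _).symm
    have hefib : ∀ v ∈ N, ∀ w ∈ N, v ^ (2 ^ (n - 1)) = w ^ (2 ^ (n - 1)) → Ec x v = Ec x w := by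
      intro v hv w hw h
      have h1 : (v * w⁻¹) ^ (2 ^ (n - 1)) = 1 := by
        rw [hPmul v hv w⁻¹ (N.inv_mem hw), inv_pow, h, mul_inv_cancel]
      obtain ⟨m, hm, e⟩ := hPker _ (N.mul_mem hv (N.inv_mem hw)) h1
      have h2 : Ec x (v * w⁻¹) = 1 := by rw [e]; exact hsq1 m hm
      have h3 := hmulv (v * w⁻¹) (N.mul_mem hv (N.inv_mem hw)) w hw
      rw [inv_mul_cancel_right, h2, one_mul] at h3
      exact h3
    obtain ⟨r₀, hr₀⟩ : ∃ r₀, r₀ = v₀ ^ (2 ^ (n - 1)) := ⟨_, rfl⟩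
    have hr₀R : r₀ ∈ Om1Z X := hr₀ ▸ hPR v₀ hv₀
    have hr₀ne : r₀ ≠ 1 := fun h => hns (hPker v₀ hv₀ (hr₀ ▸ h))
    have har₀ne : a r₀ ≠ r₀ := fun h => hr₀ne (hfpf r₀ hr₀R h)
    have har₀ne1 : a r₀ ≠ 1 := fun h => hr₀ne (by simpa using h)
    have hfour : ∀ w ∈ Om1Z X, w = 1 ∨ w = r₀ ∨ w = a r₀ ∨ w = r₀ * a r₀ :=
      Q08d.four_sub (Om1Z X) c.R4 r₀ (a r₀) hr₀R (hRa _ hr₀R) hr₀ne har₀ne1 (Ne.symm har₀ne)
        (by rw [← pow_two]; exact hRsq r₀ hr₀R)
    have ha2 : a (a r₀) = r₀ * a r₀ := by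
      rcases hfour (a (a r₀)) (hRa _ (hRa _ hr₀R)) with h | h | h | h
      · exfalso
        exact hr₀ne (by simpa using h)
      · exfalso
        have hfix : a (r₀ * a r₀) = r₀ * a r₀ := by
          rw [map_mul, h]
          exact hRcomm r₀ hr₀R (a r₀)
        have h1 := hfpf _ (Subgroup.mul_mem _ hr₀R (hRa _ hr₀R)) hfix
        apply har₀ne
        exact (eq_inv_of_mul_eq_one_right h1).trans (hRinv r₀ hr₀R)
      · exfalso
        exact har₀ne (a.injective h)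
      · exact h
    have hav₀ : a v₀ ∈ N := c.c.inv a haA v₀ hv₀
    have haav₀ : a (a v₀) ∈ N := c.c.inv a haA _ hav₀
    obtain ⟨s, hs⟩ : ∃ s, s = Ec x (a v₀) := ⟨_, rfl⟩
    have hsR : s ∈ Om1Z X := hs ▸ hR _ hav₀
    have he2 : Ec x (a (a v₀)) = s := by
      have : (a (a v₀)) ^ (2 ^ (n - 1)) = (v₀ * a v₀) ^ (2 ^ (n - 1)) := by
        rw [hPa, hPa, hPmul v₀ hv₀ _ hav₀, hPa, ← hr₀]
        exact ha2
      rw [hefib _ haav₀ _ (N.mul_mem hv₀ hav₀) this, hmulv v₀ hv₀ _ hav₀, hev₀, one_mul, hs]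
    have e_aut : ∀ y v : X, Ec (a y) (a v) = a (Ec y v) := by
      intro y v
      simp [Ec]
    have hrel : Ec x (a (a v₀)) * a (Ec x (a v₀)) * a (a (Ec x v₀)) = 1 := by
      have h1 : Ec (a x) (a (a v₀)) = a (Ec x (a v₀)) := e_aut x (a v₀)
      have h2 : Ec (a (a x)) (a (a v₀)) = a (a (Ec x v₀)) := by rw [e_aut, e_aut]
      have hc1 : Ec x (a (a v₀)) ∈ Subgroup.center X := hcen _ haav₀
      have hc2 : Ec (a x) (a (a v₀)) ∈ Subgroup.center X := by
        rw [h1]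
        exact (hRa _ (hR _ hav₀)).1
      have h3 : Ec (x * a x) (a (a v₀)) = Ec x (a (a v₀)) * Ec (a x) (a (a v₀)) :=
        Q08d.Ec_mul_left _ _ _ hc1
      have hc3 : Ec (x * a x) (a (a v₀)) ∈ Subgroup.center X := by
        rw [h3]
        exact Subgroup.mul_mem _ hc1 hc2
      have h4 := Q08d.Ec_mul_left (x * a x) (a (a x)) (a (a v₀)) hc3
      rw [Q08d.Ec_N c.c.ab hnorm haav₀, h3, h1, h2] at h4
      exact h4.symm
    rw [he2, hev₀, map_one, map_one, mul_one, ← hs] at hrel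
    have has : a s = s := (eq_inv_of_mul_eq_one_right hrel).trans (hRinv s hsR)
    have hs1 : s = 1 := hfpf s hsR has
    apply hv₁ne
    rcases hfour (v₁ ^ (2 ^ (n - 1))) (hPR v₁ hv₁) with h | h | h | h
    · obtain ⟨m, hm, e⟩ := hPker v₁ hv₁ h
      rw [e]
      exact hsq1 m hm
    · rw [hefib v₁ hv₁ v₀ hv₀ (by rw [h, hr₀])]
      exact hev₀
    · rw [hefib v₁ hv₁ (a v₀) hav₀ (by rw [h, hPa, hr₀]), ← hs]
      exact hs1
    · rw [hefib v₁ hv₁ (v₀ * a v₀) (N.mul_mem hv₀ hav₀) (by rw [h, hPmul v₀ hv₀ _ hav₀, hPa, hr₀]),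
        hmulv v₀ hv₀ _ hav₀, hev₀, one_mul, ← hs]
      exact hs1

end Cfsg.Agent.Lib.Helper12.SC3.PC2
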