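import Cfsg.Agent.Lib.Helper12.SC3.PC2.Defs

/-!
# S1904 farm — PART PC2 sub-farm (architect helper12) — leaf Q08e
Paper proof: `SC3/Blueprint.lean`, Case 2.  Definitions: `SC3/Defs.lean`, `SC3/PC2/Defs.lean`; shared lemmas (G2,G3,G4) in `SC3/G.lean` may be used as black boxes.
Only replace the `sorry`; names / statements / namespace verbatim; aux lemmas with fresh names in sub-namespace `Q08e`.

RECIPE.  Blueprint (2.5), the final contradiction.  `ψ(v) = (x⁻¹ v x) v = v² · Ec x v` is an endomorphism of `N` with values in the squares (`Om1Z X ⊆` squares).  `ker ψ = Om1Z X`: if `v² = (Ec x v)⁻¹ ∈ Om1Z X` then `v⁴ = 1`, so `v` is a `2^(n-2)`-th power, in particular a square (`n ≥ 3`),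
so `Ec x v = (Ec x m)² = 1` and `v² = 1`.  Counting: `|ψ(N)| = |N|/4 = |squares|`, so `ψ` is onto the squares.  `x² ∈ N` commutes with `x`: `Ec x (x²) = 1`, so `x²` (hence `x⁻²`) is a square (`hker`): there is `v ∈ N` with `ψ(v) = x⁻²`, and then `(x v)² = x² ψ(v) = 1`.
`u = x v`: `u ∉ N`, `u² = 1`, `u` centralizes `Om1Z X` (central).  For `g : X`: `g u g⁻¹ = u v'` with `v' ∈ N` (`hcen`, `N` normal), it is an involution and `Ec u = Ec x` on `N`, so `ψ(v') = 1`, `v' ∈ Om1Z X`.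
Hence `E = closure ({u} ∪ Om1Z X)` is normal, abelian, of exponent 2 and order 8: against `c.c.hyp.rk` (with `M = E`).
-/

set_option autoImplicit false

namespace Cfsg.Agent.Lib.Helper12.SC3.PC2

variable {X : Type*} [Group X] {A : Subgroup (MulAut X)} {N : Subgroup X} {n : ℕ}

namespace Q08e

theorem conj_eq (x v : X) : x⁻¹ * v * x = v * Ec x v := by
  unfold Ec; group

theorem Ec_mul (x : X) {v w : X} (hc : ∀ g : X, Ec x v * g = g * Ec x v) :
    Ec x (v * w) = Ec x v * Ec x w := by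
  have : Ec x (v * w) = w⁻¹ * Ec x v * w * Ec x w := by unfold Ec; group
  rw [this, mul_assoc w⁻¹, hc w, ← mul_assoc, inv_mul_cancel, one_mul]

/-- closure of a set of pairwise commuting elements of exponent 2, stable under conjugation up to the closure:
normal, abelian, exponent 2 -/
theorem closure_facts (S : Set X) (hcomm : ∀ s ∈ S, ∀ t ∈ S, s * t = t * s) (hsq : ∀ s ∈ S, s ^ 2 = 1)
    (hconj : ∀ s ∈ S, ∀ g : X, g * s * g⁻¹ ∈ Subgroup.closure S) :
    (Subgroup.closure S).Normal ∧ Ab (Subgroup.closure S) ∧ ∀ e ∈ Subgroup.closure S, e ^ 2 = 1 := by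
  have hA : ∀ s ∈ S, ∀ e ∈ Subgroup.closure S, s * e = e * s := by
    intro s hs e he
    induction he using Subgroup.closure_induction with
    | mem t ht => exact hcomm s hs t ht
    | one => simp
    | mul a b _ _ iha ihb => rw [← mul_assoc, iha, mul_assoc, ihb, ← mul_assoc]
    | inv a _ iha =>
      have : a⁻¹ * (s * a) * a⁻¹ = a⁻¹ * (a * s) * a⁻¹ := by rw [iha]
      simpa [mul_assoc] using this.symm
  have hB : ∀ d ∈ Subgroup.closure S, ∀ e ∈ Subgroup.closure S, d * e = e * d := by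
    intro d hd e he
    induction hd using Subgroup.closure_induction with
    | mem t ht => exact hA t ht e he
    | one => simp
    | mul a b _ _ iha ihb => rw [mul_assoc, ihb, ← mul_assoc, iha, mul_assoc]
    | inv a _ iha =>
      have : a⁻¹ * (a * e) * a⁻¹ = a⁻¹ * (e * a) * a⁻¹ := by rw [iha]
      simpa [mul_assoc] using this.symm
  refine ⟨⟨?_⟩, hB, ?_⟩
  · intro e he g
    induction he using Subgroup.closure_induction with
    | mem t ht => exact hconj t ht g
    | one => simp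
    | mul a b _ _ iha ihb =>
      have : g * (a * b) * g⁻¹ = (g * a * g⁻¹) * (g * b * g⁻¹) := by group
      rw [this]; exact Subgroup.mul_mem _ iha ihb
    | inv a _ iha =>
      have : g * a⁻¹ * g⁻¹ = (g * a * g⁻¹)⁻¹ := by group
      rw [this]; exact Subgroup.inv_mem _ iha
  · intro e he
    induction he using Subgroup.closure_induction with
    | mem t ht => exact hsq t ht
    | one => simp
    | mul a b ha hb iha ihb =>
      have hc : Commute a b := hB a ha b hb
      rw [hc.mul_pow, iha, ihb, one_mul]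
    | inv a _ iha => rw [inv_pow, iha, inv_one]

end Q08e

open Q08e in
theorem no_three [Finite X] (c : Ctx3 A N n) (hn : 3 ≤ n) (x : X) (hx : x ∉ N) (hx2 : x ^ 2 ∈ N)
    (hcen : ∀ g : X, x * g * x⁻¹ * g⁻¹ ∈ N) (hR : ∀ v ∈ N, Ec x v ∈ Om1Z X)
    (hker : ∀ v ∈ N, Ec x v = 1 → ∃ m ∈ N, v = m ^ 2) : False := by
  classical
  have hab := c.c.ab
  -- facts on R
  have hRc : ∀ r ∈ Om1Z X, ∀ g : X, r * g = g * r := fun r hr g =>
    ((Subgroup.mem_center_iff.mp (mem_Om1Z.mp hr).1) g).symm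
  have hR2 : ∀ r ∈ Om1Z X, r ^ 2 = 1 := fun r hr => (mem_Om1Z.mp hr).2
  have hEc_c : ∀ v ∈ N, ∀ g : X, Ec x v * g = g * Ec x v := fun v hv g => hRc _ (hR v hv) g
  have hEc_mul : ∀ v ∈ N, ∀ w ∈ N, Ec x (v * w) = Ec x v * Ec x w := fun v hv w _ =>
    Ec_mul x (hEc_c v hv)
  have hEc_sq : ∀ m ∈ N, Ec x (m ^ 2) = 1 := by
    intro m hm
    rw [pow_two, hEc_mul m hm m hm, ← pow_two]
    exact hR2 _ (hR m hm)
  have hEc_R : ∀ r ∈ Om1Z X, Ec x r = 1 := by
    intro r hr
    unfold Ec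
    rw [mul_assoc r⁻¹, ← hRc r hr x⁻¹, ← mul_assoc, inv_mul_cancel, one_mul, inv_mul_cancel]
  have hRsq : ∀ r ∈ Om1Z X, ∃ s ∈ N, r = s ^ 2 := by
    intro r hr
    obtain ⟨u, hu, hru⟩ := c.div 1 (by omega) r (c.RN hr) (by simpa using hR2 r hr)
    refine ⟨u ^ (2 ^ (n - 2)), N.pow_mem hu _, ?_⟩
    rw [hru, ← pow_mul, ← pow_succ]
    congr 2; omega
  -- ψ
  set psi : X → X := fun v => v ^ 2 * Ec x v with hpsi
  have psi_mul : ∀ v ∈ N, ∀ w ∈ N, psi (v * w) = psi v * psi w := by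
    intro v hv w hw
    have hcvw : Commute v w := hab v hv w hw
    simp only [hpsi]
    rw [hcvw.mul_pow, hEc_mul v hv w hw, mul_assoc, ← mul_assoc (w ^ 2), ← hEc_c v hv (w ^ 2)]
    simp only [mul_assoc]
  have psi_mem : ∀ v ∈ N, psi v ∈ N := fun v hv =>
    N.mul_mem (N.pow_mem hv 2) (c.RN (hR v hv))
  have psi_sq : ∀ v ∈ N, ∃ m ∈ N, psi v = m ^ 2 := by
    intro v hv
    obtain ⟨s, hs, hs2⟩ := hRsq _ (hR v hv)
    refine ⟨v * s, N.mul_mem hv hs, ?_⟩
    have hcvs : Commute v s := hab v hv s hs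
    simp only [hpsi]
    rw [hcvs.mul_pow, hs2]
  have psi_ker : ∀ v ∈ N, psi v = 1 → v ∈ Om1Z X := by
    intro v hv h1
    have hv2 : v ^ 2 = (Ec x v)⁻¹ := eq_inv_of_mul_eq_one_left h1
    have hv2R : v ^ 2 ∈ Om1Z X := by rw [hv2]; exact (Om1Z X).inv_mem (hR v hv)
    have hv4 : v ^ (2 ^ 2) = 1 := by
      have : v ^ (2 ^ 2) = (v ^ 2) ^ 2 := by rw [← pow_mul]; norm_num
      rw [this]; exact hR2 _ hv2R
    obtain ⟨u, hu, hvu⟩ := c.div 2 (by omega) v hv hv4
    have hvm : v = (u ^ (2 ^ (n - 3))) ^ 2 := by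
      rw [hvu, ← pow_mul, ← pow_succ]; congr 2; omega
    have hE1 : Ec x v = 1 := by rw [hvm]; exact hEc_sq _ (N.pow_mem hu _)
    rw [hE1, inv_one] at hv2
    exact c.om v hv hv2
  have psi_R : ∀ r ∈ Om1Z X, psi r = 1 := by
    intro r hr
    simp only [hpsi]
    rw [hR2 r hr, hEc_R r hr, one_mul]
  -- homs on N
  let sq : ↥N →* ↥N := MonoidHom.mk' (fun v => ⟨(v : X) ^ 2, N.pow_mem v.2 2⟩) (by
    intro a b
    apply Subtype.ext
    have hcab : Commute (a : X) (b : X) := hab a a.2 b b.2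
    simp [hcab.mul_pow])
  let ps : ↥N →* ↥N := MonoidHom.mk' (fun v => ⟨psi (v : X), psi_mem v v.2⟩) (by
    intro a b
    apply Subtype.ext
    simp only [Subgroup.coe_mul]
    exact psi_mul a a.2 b b.2)
  have hkereq : sq.ker = ps.ker := by
    ext v
    rw [MonoidHom.mem_ker, MonoidHom.mem_ker]
    constructor
    · intro h
      have h' : (v : X) ^ 2 = 1 := congrArg Subtype.val h
      have hvR := c.om v v.2 h'
      exact Subtype.ext (psi_R v hvR)
    · intro h
      have h' : psi (v : X) = 1 := congrArg Subtype.val h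
      have hvR := psi_ker v v.2 h'
      exact Subtype.ext (hR2 v hvR)
  have hrange_le : ps.range ≤ sq.range := by
    rintro _ ⟨v, rfl⟩
    obtain ⟨m, hm, hm2⟩ := psi_sq v v.2
    exact ⟨⟨m, hm⟩, Subtype.ext hm2.symm⟩
  have hcardeq : Nat.card sq.range = Nat.card ps.range := by
    rw [← Subgroup.index_ker, ← Subgroup.index_ker, hkereq]
  have hrange : ps.range = sq.range :=
    Subgroup.eq_of_le_of_card_ge hrange_le (le_of_eq hcardeq)
  -- x² is a square, so x⁻² = ψ v
  have hExx : Ec x (x ^ 2) = 1 := by unfold Ec; group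
  obtain ⟨m, hm, hxm⟩ := hker (x ^ 2) hx2 hExx
  have hxinv : (⟨(x ^ 2)⁻¹, N.inv_mem hx2⟩ : ↥N) ∈ sq.range :=
    ⟨⟨m⁻¹, N.inv_mem hm⟩, Subtype.ext (by show (m⁻¹) ^ 2 = (x ^ 2)⁻¹; rw [inv_pow, hxm])⟩
  rw [← hrange] at hxinv
  obtain ⟨⟨v, hv⟩, hvx⟩ := hxinv
  have hpsiv : psi v = (x ^ 2)⁻¹ := congrArg Subtype.val hvx
  -- the involution u
  set u : X := x * v with hu
  have hu2 : u ^ 2 = 1 := by
    have h1 : u ^ 2 = x ^ 2 * ((x⁻¹ * v * x) * v) := by rw [hu]; simp only [pow_two]; group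
    have h2 : v * Ec x v * v = psi v := by
      simp only [hpsi]
      rw [mul_assoc, hEc_c v hv v, ← mul_assoc, ← pow_two]
    rw [h1, conj_eq, h2, hpsiv, mul_inv_cancel]
  have huN : u ∉ N := by
    intro h
    apply hx
    have : x = u * v⁻¹ := by rw [hu]; group
    rw [this]; exact N.mul_mem h (N.inv_mem hv)
  have huu : u * u = 1 := by rw [← pow_two]; exact hu2
  have huinv : u⁻¹ = u := inv_eq_of_mul_eq_one_left huu
  -- conjugates of u
  have hconj : ∀ g : X, u⁻¹ * (g * u * g⁻¹) ∈ Om1Z X := by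
    intro g
    set v' : X := u⁻¹ * (g * u * g⁻¹) with hv'
    have hv'N : v' ∈ N := by
      have h1 := c.c.nN.conj_mem _ (hcen g) x⁻¹
      have h2 := N.inv_mem h1
      have h3 : x⁻¹ * g * x * g⁻¹ ∈ N := by
        have : x⁻¹ * g * x * g⁻¹ = (x⁻¹ * (x * g * x⁻¹ * g⁻¹) * x⁻¹⁻¹)⁻¹ := by group
        rw [this]; exact h2
      have h4 : g * v * g⁻¹ ∈ N := c.c.nN.conj_mem v hv g
      have : v' = v⁻¹ * (x⁻¹ * g * x * g⁻¹) * (g * v * g⁻¹) := by rw [hv', hu]; group
      rw [this]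
      exact N.mul_mem (N.mul_mem (N.inv_mem hv) h3) h4
    have huv' : u * v' = g * u * g⁻¹ := by rw [hv']; group
    have hsq1 : (u * v') ^ 2 = 1 := by
      rw [huv']
      have : (g * u * g⁻¹) ^ 2 = g * u ^ 2 * g⁻¹ := by simp only [pow_two]; group
      rw [this, hu2]; group
    -- u⁻¹ v' u = x⁻¹ v' x
    have hcj : u⁻¹ * v' * u = v' * Ec x v' := by
      have hxN : x⁻¹ * v' * x ∈ N := by
        have := c.c.nN.conj_mem v' hv'N x⁻¹
        simpa using this
      have h1 : u⁻¹ * v' * u = v⁻¹ * (x⁻¹ * v' * x) * v := by rw [hu]; group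
      rw [h1, mul_assoc, ← hab v hv _ hxN, ← mul_assoc, inv_mul_cancel, one_mul, conj_eq]
    have h5 : (u * v') ^ 2 = (u * u) * ((u⁻¹ * v' * u) * v') := by simp only [pow_two]; group
    rw [h5, huu, one_mul, hcj] at hsq1
    have h6 : psi v' = 1 := by
      simp only [hpsi]
      rw [← hsq1, mul_assoc v', hEc_c v' hv'N v', ← mul_assoc, ← pow_two]
    exact psi_ker v' hv'N h6
  -- the subgroup E
  set S : Set X := insert u (Om1Z X : Set X) with hS
  have huS : u ∈ S := Set.mem_insert _ _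
  have hRS : ∀ r ∈ Om1Z X, r ∈ S := fun r hr => Set.mem_insert_of_mem _ hr
  have hScomm : ∀ s ∈ S, ∀ t ∈ S, s * t = t * s := by
    intro s hs t ht
    rcases hs with rfl | hs
    · rcases ht with rfl | ht
      · rfl
      · exact (hRc t ht _).symm
    · exact hRc s hs t
  have hSsq : ∀ s ∈ S, s ^ 2 = 1 := by
    intro s hs
    rcases hs with rfl | hs
    · exact hu2
    · exact hR2 s hs
  have hSconj : ∀ s ∈ S, ∀ g : X, g * s * g⁻¹ ∈ Subgroup.closure S := by
    intro s hs g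
    rcases hs with rfl | hs
    · have : g * u * g⁻¹ = u * (u⁻¹ * (g * u * g⁻¹)) := by group
      rw [this]
      exact Subgroup.mul_mem _ (Subgroup.subset_closure huS)
        (Subgroup.subset_closure (hRS _ (hconj g)))
    · have : g * s * g⁻¹ = s := by rw [← hRc s hs g, mul_assoc, mul_inv_cancel, mul_one]
      rw [this]
      exact Subgroup.subset_closure (hRS s hs)
  obtain ⟨hEn, hEab, hEexp⟩ := closure_facts S hScomm hSsq hSconj
  have hcardE := c.c.hyp.rk (Subgroup.closure S) hEn hEab (Subgroup.closure S) le_rfl hEexp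
  have hRE : Om1Z X ≤ Subgroup.closure S := fun r hr => Subgroup.subset_closure (hRS r hr)
  have hEq : Om1Z X = Subgroup.closure S :=
    Subgroup.eq_of_le_of_card_ge hRE (by rw [c.R4]; exact hcardE)
  apply huN
  apply c.RN
  rw [hEq]
  exact Subgroup.subset_closure huS

end Cfsg.Agent.Lib.Helper12.SC3.PC2
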