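import Cfsg.Agent.Lib.Helper12.SC3.PC2.Q00
import Cfsg.Agent.Lib.Helper12.SC3.PC2.Q01
import Cfsg.Agent.Lib.Helper12.SC3.PC2.Q02
import Cfsg.Agent.Lib.Helper12.SC3.PC2.Q04a
import Cfsg.Agent.Lib.Helper12.SC3.PC2.Q04b
import Cfsg.Agent.Lib.Helper12.SC3.PC2.Q04c
import Cfsg.Agent.Lib.Helper12.SC3.PC2.Q04d
import Cfsg.Agent.Lib.Helper12.SC3.PC2.Q05a
import Cfsg.Agent.Lib.Helper12.SC3.PC2.Q05
import Cfsg.Agent.Lib.Helper12.SC3.PC2.Q06m
import Cfsg.Agent.Lib.Helper12.SC3.PC2.Q06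
import Cfsg.Agent.Lib.Helper12.SC3.PC2.Q06i
import Cfsg.Agent.Lib.Helper12.SC3.PC2.Q06s
import Cfsg.Agent.Lib.Helper12.SC3.PC2.Q07a
import Cfsg.Agent.Lib.Helper12.SC3.PC2.Q07b
import Cfsg.Agent.Lib.Helper12.SC3.PC2.Q07c
import Cfsg.Agent.Lib.Helper12.SC3.PC2.Q08a
import Cfsg.Agent.Lib.Helper12.SC3.PC2.Q08b
import Cfsg.Agent.Lib.Helper12.SC3.PC2.Q08c
import Cfsg.Agent.Lib.Helper12.SC3.PC2.Q08d
import Cfsg.Agent.Lib.Helper12.SC3.PC2.Q08e

/-!
# S1904 farm — PART PC2: assembly (helper12)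
-/

set_option autoImplicit false

namespace Cfsg.Agent.Lib.Helper12.SC3.PC2

variable {X : Type*} [Group X] {A : Subgroup (MulAut X)} {N : Subgroup X} {n : ℕ}

theorem exists_ctx3 [Finite X] (c : Ctx2 A N) : ∃ n : ℕ, Ctx3 A N n := by
  obtain ⟨hR4, hRN, hom, hirr⟩ := omega_facts c
  obtain ⟨n, h2, hcard, hexp, hdiv⟩ := homocyclic c hR4 hRN hom hirr
  exact ⟨n, ⟨c, h2, hcard, hexp, hdiv, hR4, hRN, hom, hirr⟩⟩

theorem centralizer_eq [Finite X] (c : Ctx3 A N n) : Subgroup.centralizer (N : Set X) = N := by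
  by_contra hne
  obtain ⟨Y, hY⟩ := exists_Y c hne
  rcases Y_dichotomy c hY with h | h
  · exact Y_case_zero c hY h
  · exact Y_case_inj c hY h

theorem noncentral_case' [Finite X] (h : Hyp A) (hc : ¬ AllCentral A) : ConclB X := by
  obtain ⟨N, c2⟩ := exists_ctx2 h hc
  obtain ⟨n, c⟩ := exists_ctx3 c2
  have hC := centralizer_eq c
  have hirr := irr_top c
  have hsq := comm_mem_sq c hirr
  obtain ⟨a, haA, hmove⟩ := exists_mover c
  have hnorm := fun x => norm_zero c hsq a haA hmove x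
  have hinj := fun x => inj_of_norm_zero c a haA hmove x (hsq x) (hnorm x)
  have hS := fun x => not_sq_of_norm_zero c a haA hmove x (hnorm x)
  by_cases hn : n = 2
  · subst hn
    exact conclB_of c hC hinj (card_64 c hC hsq hinj) (sq_mem c hC hsq hinj)
  · have hn3 : 3 ≤ n := by
      have := c.two_le
      omega
    obtain ⟨x, hxN, hx2, hcen, alt⟩ := exists_x c hC
    have h4 := level_two c hn3 x hx2 (hsq x) (hinj x) (hS x)
    have hR := climb c hn3 x hx2 h4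
    have hker := kernel_eq c hC hirr x hxN hR alt
    exact (no_three c hn3 x hxN hx2 hcen hR hker).elim

end Cfsg.Agent.Lib.Helper12.SC3.PC2
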