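import Cfsg.Agent.Lib.Helper12.SC3.PC2.Defs

/-!
# S1904 farm — PART PC2 sub-farm (architect helper12) — leaf Q00
Paper proof: `SC3/Blueprint.lean`, Case 2.  Definitions: `SC3/Defs.lean`, `SC3/PC2/Defs.lean`; shared lemmas (G2,G3,G4) in `SC3/G.lean` may be used as black boxes.
Only replace the `sorry`; names / statements / namespace verbatim; aux lemmas with fresh names in sub-namespace `Q00`.

RECIPE.  The set of noncentral `A`-invariant normal abelian subgroups is nonempty (`¬ AllCentral A`) and finite; take a maximal element (w.r.t. `≤`).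
An `A`-invariant normal abelian `M ≥ N` is again noncentral, so `M = N`.
-/

set_option autoImplicit false

namespace Cfsg.Agent.Lib.Helper12.SC3.PC2

variable {X : Type*} [Group X] {A : Subgroup (MulAut X)} {N : Subgroup X} {n : ℕ}

theorem exists_ctx2 [Finite X] (h : Hyp A) (hc : ¬ AllCentral A) : ∃ N : Subgroup X, Ctx2 A N := by
  unfold AllCentral at hc
  push Not at hc
  obtain ⟨N0, hN0n, hN0i, hN0a, hN0c⟩ := hc
  have hfin : Set.Finite {N : Subgroup X | N.Normal ∧ Inv A N ∧ Ab N ∧ ¬ N ≤ Subgroup.center X} :=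
    Set.toFinite _
  obtain ⟨N, hN, hmax⟩ := hfin.exists_maximal ⟨N0, hN0n, hN0i, hN0a, hN0c⟩
  refine ⟨N, ⟨h, hN.1, hN.2.1, hN.2.2.1, hN.2.2.2, ?_⟩⟩
  intro M hMn hMi hMa hNM
  have hM : M ∈ {N : Subgroup X | N.Normal ∧ Inv A N ∧ Ab N ∧ ¬ N ≤ Subgroup.center X} :=
    ⟨hMn, hMi, hMa, fun hMc => hN.2.2.2 (hNM.trans hMc)⟩
  exact le_antisymm (hmax hM hNM) hNM

end Cfsg.Agent.Lib.Helper12.SC3.PC2
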