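import Cfsg.Agent.Lib.Helper12.SC3.PC2.Defs
import Cfsg.Agent.Lib.Helper8.SC3G6
import Cfsg.Agent.Lib.Helper9.SC3G

/-!
# S1904 farm — PART PC2 sub-farm (architect helper12) — leaf Q06
Paper proof: `SC3/Blueprint.lean`, Case 2.  Definitions: `SC3/Defs.lean`, `SC3/PC2/Defs.lean`; shared lemmas (G2,G3,G4) in `SC3/G.lean` may be used as black boxes.
Only replace the `sorry`; names / statements / namespace verbatim; aux lemmas with fresh names in sub-namespace `Q06`.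

RECIPE.  Blueprint (2.3).  Work modulo `N₂ = {m⁴}`.  For `x : X` the map `Ē_x : N/N₁ → N₁/N₂` induced by `Ec x` is a homomorphism (`hsq`), `x ↦ Ē_x` is additive (`Ec (x y) v = Ec y v * Ec x v * Ec y (Ec x v)` and `Ec y (m²) = (Ec y m)² ∈ N₂`),
`φ (Ec x v) = Ec (φ x) (φ v)`.  `A` acts on `N/N₁` and on `N₁/N₂` through the same abelian group (`≤ Z₃`, squaring `N/N₁ ≅ N₁/N₂` is `A`-equivariant), `a` acts with order 3 and generates this image.
`ν(x) := Ē_x + a Ē_x a⁻¹ + a² Ē_x a⁻²` is additive in `x` and fixed by all of `A`; on a generator `g = x⁻¹ φ(x)`: `ν(g) = -ν(x) + φ ν(x) φ⁻¹ = 0`.  `Hyp.gen` gives `ν = 0` on `X`; that is the statement.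
-/

set_option autoImplicit false

namespace Cfsg.Agent.Lib.Helper12.SC3.PC2

namespace Q06

variable {X : Type*} [Group X]

theorem Ec_mul_left (x y v : X) : Ec (x * y) v = Ec y v * Ec x v * Ec y (Ec x v) := by
  unfold Ec; group

theorem Ec_one (v : X) : Ec 1 v = 1 := by unfold Ec; group

theorem Ec_map (φ : MulAut X) (x v : X) : φ (Ec x v) = Ec (φ x) (φ v) := by
  unfold Ec; simp only [map_mul, map_inv]

theorem Ec_mul_right_aux (x v w : X) : Ec x (v * w) = w⁻¹ * Ec x v * (x⁻¹ * w * x) := by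
  unfold Ec; group

theorem Ec_mem {N : Subgroup X} (hN : N.Normal) (x : X) {v : X} (hv : v ∈ N) : Ec x v ∈ N := by
  have h1 : x⁻¹ * v * x ∈ N := by
    have := hN.conj_mem v hv x⁻¹
    simpa using this
  have : Ec x v = v⁻¹ * (x⁻¹ * v * x) := by unfold Ec; group
  rw [this]
  exact N.mul_mem (N.inv_mem hv) h1

theorem Ec_mul_right {N : Subgroup X} (hN : N.Normal) (hab : Ab N) (x : X) {v w : X} (hv : v ∈ N)
    (hw : w ∈ N) : Ec x (v * w) = Ec x v * Ec x w := by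
  rw [Ec_mul_right_aux, hab _ (N.inv_mem hw) _ (Ec_mem hN x hv)]
  unfold Ec; group

/-- automorphisms preserve `Om1Z` -/
theorem aut_mem_R (φ : MulAut X) {r : X} (hr : r ∈ Om1Z X) : φ r ∈ Om1Z X := by
  refine ⟨?_, by rw [← map_pow, hr.2, map_one]⟩
  rw [Subgroup.mem_center_iff]
  intro g
  have h := Subgroup.mem_center_iff.mp hr.1 (φ⁻¹ g)
  have h2 := congrArg φ h
  simpa [map_mul] using h2

/-- restriction of an automorphism to `Om1Z` -/
def restr (φ : MulAut X) : ↥(Om1Z X) ≃* ↥(Om1Z X) where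
  toFun r := ⟨φ r, aut_mem_R φ r.2⟩
  invFun r := ⟨φ⁻¹ r, aut_mem_R φ⁻¹ r.2⟩
  left_inv r := by ext; simp
  right_inv r := by ext; simp
  map_mul' r s := by ext; simp

theorem restr_coe (φ : MulAut X) (r : ↥(Om1Z X)) : ((restr φ r : ↥(Om1Z X)) : X) = φ (r : X) := rfl

theorem pow_fix {S : Set X} {g : MulAut X} (h : ∀ r ∈ S, g r = r) : ∀ k : ℕ, ∀ r ∈ S, (g ^ k) r = r := by
  intro k
  induction k with
  | zero => intro r _; simp
  | succ k ih =>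
    intro r hr
    rw [pow_succ, MulAut.mul_apply, h r hr, ih r hr]

/-- an odd-order automorphism whose square fixes `S` pointwise fixes `S` pointwise -/
theorem fix_of_sq_fix {S : Set X} {g : MulAut X} (hodd : Odd (orderOf g))
    (h : ∀ r ∈ S, g (g r) = r) : ∀ r ∈ S, g r = r := by
  obtain ⟨j, hj⟩ := hodd
  have h2 : ∀ r ∈ S, (g ^ 2) r = r := by
    intro r hr
    rw [pow_two, MulAut.mul_apply]; exact h r hr
  have hg : g = (g ^ 2) ^ (j + 1) := by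
    rw [← pow_mul, show 2 * (j + 1) = orderOf g + 1 by omega, pow_succ, pow_orderOf_eq_one, one_mul]
  intro r hr
  rw [hg]
  exact pow_fix h2 (j + 1) r hr

section four

theorem sq_R (v : ↥(Om1Z X)) : v ^ 2 = 1 := by
  apply Subtype.ext
  simpa using v.2.2

theorem fpf_R (a : MulAut X) (hmove : ∀ r ∈ Om1Z X, a r = r → r = 1)
    (v : ↥(Om1Z X)) (hv : restr a v = v) : v = 1 := by
  apply Subtype.ext
  have h := congrArg Subtype.val hv
  rw [restr_coe] at h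
  simpa using hmove v v.2 h

theorem exists_ne_one (h4 : Nat.card ↥(Om1Z X) = 4) : ∃ r0 : ↥(Om1Z X), r0 ≠ 1 := by
  have : Finite ↥(Om1Z X) := Nat.finite_of_card_ne_zero (by rw [h4]; norm_num)
  have : Nontrivial ↥(Om1Z X) := by
    rw [← Finite.one_lt_card_iff_nontrivial, h4]; norm_num
  exact _root_.exists_ne 1

/-- key: an odd-order automorphism fixing one nonidentity element of `R` fixes `R` pointwise -/
theorem fix_all (h4 : Nat.card ↥(Om1Z X) = 4) (a : MulAut X)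
    (hmove : ∀ r ∈ Om1Z X, a r = r → r = 1) (ψ : MulAut X) (hodd : Odd (orderOf ψ)) (r0 : ↥(Om1Z X)) (hr0 : r0 ≠ 1)
    (hfix : ψ (r0 : X) = r0) : ∀ t ∈ Om1Z X, ψ t = t := by
  have e := sq_R (X := X)
  have f := fpf_R a hmove
  have hcomm := Cfsg.Agent.Lib.Helper8.SC3G6.comm_of_sq e
  set s := restr a r0 with hs
  have hψr0 : restr ψ r0 = r0 := Subtype.ext hfix
  -- ψ² fixes everything
  apply fix_of_sq_fix hodd
  intro t ht
  have key : ∀ w : ↥(Om1Z X), restr ψ (restr ψ w) = w := by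
    have hs2 : restr ψ (restr ψ s) = s := by
      rcases Cfsg.Agent.Lib.Helper8.SC3G6.mem_four h4 e (restr a) f r0 hr0 (restr ψ s) with h | h | h | h
      · -- ψ s = 1 → s = 1
        have : s = 1 := by
          have := congrArg (restr ψ).symm h; simpa using this
        have : r0 = 1 := by
          have h' := congrArg (restr a).symm this; simpa [hs] using h'
        exact absurd this hr0
      · -- ψ s = r0 = ψ r0 → s = r0
        have : s = r0 := by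
          have h' : restr ψ s = restr ψ r0 := by rw [h, hψr0]
          exact (restr ψ).injective h'
        exact absurd (f r0 this) hr0
      · rw [h, h]
      · rw [h, map_mul, hψr0, h, ← mul_assoc]
        have := e r0; rw [pow_two] at this
        rw [this, one_mul]
    intro w
    rcases Cfsg.Agent.Lib.Helper8.SC3G6.mem_four h4 e (restr a) f r0 hr0 w with h | h | h | h
    · rw [h, map_one, map_one]
    · rw [h, hψr0, hψr0]
    · rw [h]; exact hs2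
    · rw [h, map_mul, map_mul, hψr0, hψr0, hs2]
  have := congrArg Subtype.val (key ⟨t, ht⟩)
  simpa [restr_coe] using this

/-- every odd-order automorphism acts on `R` as a power of `a` -/
theorem aut_cases (h4 : Nat.card ↥(Om1Z X) = 4) (a : MulAut X)
    (hmove : ∀ r ∈ Om1Z X, a r = r → r = 1) (φ : MulAut X) (hA : ∀ ψ : MulAut X, ψ = φ ∨ ψ = a⁻¹ * φ ∨ ψ = a⁻¹ * a⁻¹ * φ → Odd (orderOf ψ)) :
    (∀ r ∈ Om1Z X, φ r = r) ∨ (∀ r ∈ Om1Z X, φ r = a r) ∨ (∀ r ∈ Om1Z X, φ r = a (a r)) := by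
  have e := sq_R (X := X)
  have f := fpf_R a hmove
  obtain ⟨r0, hr0⟩ := exists_ne_one h4
  have hss : restr a (restr a r0) = r0 * restr a r0 := by
    rcases Cfsg.Agent.Lib.Helper8.SC3G6.mem_four h4 e (restr a) f r0 hr0 (restr a (restr a r0)) with h | h | h | h
    · have h1 : restr a r0 = 1 := by
        have := congrArg (restr a).symm h; simpa using this
      have h2 : r0 = 1 := by
        have := congrArg (restr a).symm h1; simpa using this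
      exact absurd h2 hr0
    · exact absurd (Cfsg.Agent.Lib.Helper8.SC3G6.eq_one_of_sq_fix e (restr a) f r0 h) hr0
    · have h1 : restr a r0 = r0 := (restr a).injective h
      exact absurd (f r0 h1) hr0
    · exact h
  rcases Cfsg.Agent.Lib.Helper8.SC3G6.mem_four h4 e (restr a) f r0 hr0 (restr φ r0) with h | h | h | h
  · have : r0 = 1 := by
      have := congrArg (restr φ).symm h; simpa using this
    exact absurd this hr0
  · left
    exact fix_all h4 a hmove φ (hA φ (Or.inl rfl)) r0 hr0 (congrArg Subtype.val h)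
  · right; left
    have hfix : (a⁻¹ * φ) (r0 : X) = r0 := by
      have h' := congrArg Subtype.val h
      rw [restr_coe, restr_coe] at h'
      rw [MulAut.mul_apply, h']; simp
    have hall := fix_all h4 a hmove (a⁻¹ * φ) (hA _ (Or.inr (Or.inl rfl))) r0 hr0 hfix
    intro r hr
    have := hall r hr
    rw [MulAut.mul_apply] at this
    have h2 := congrArg a this
    simpa using h2
  · right; right
    have hfix : (a⁻¹ * a⁻¹ * φ) (r0 : X) = r0 := by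
      have h' := congrArg Subtype.val (h.trans hss.symm)
      rw [restr_coe, restr_coe, restr_coe] at h'
      rw [MulAut.mul_apply, MulAut.mul_apply, h']; simp
    have hall := fix_all h4 a hmove (a⁻¹ * a⁻¹ * φ) (hA _ (Or.inr (Or.inr rfl))) r0 hr0 hfix
    intro r hr
    have := hall r hr
    rw [MulAut.mul_apply, MulAut.mul_apply] at this
    have h2 := congrArg (fun z => a (a z)) this
    simpa using h2

/-- `a³` is trivial on `R` -/
theorem a_cube (h4 : Nat.card ↥(Om1Z X) = 4) (a : MulAut X)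
    (hmove : ∀ r ∈ Om1Z X, a r = r → r = 1) (r : X) (hr : r ∈ Om1Z X) : a (a (a r)) = r := by
  have e := sq_R (X := X)
  have f := fpf_R a hmove
  by_cases h1 : r = 1
  · rw [h1]; simp
  · let r0 : ↥(Om1Z X) := ⟨r, hr⟩
    have hr0 : r0 ≠ 1 := fun h => h1 (congrArg Subtype.val h)
    -- a (a r0) = r0 * a r0, so a(a(a r0)) = a r0 * a (a r0) = a r0 * (r0 * a r0) = r0
    have hss : restr a (restr a r0) = r0 * restr a r0 := by
      rcases Cfsg.Agent.Lib.Helper8.SC3G6.mem_four h4 e (restr a) f r0 hr0 (restr a (restr a r0)) with h | h | h | h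
      · have h1' : restr a r0 = 1 := by
          have := congrArg (restr a).symm h; simpa using this
        have h2 : r0 = 1 := by
          have := congrArg (restr a).symm h1'; simpa using this
        exact absurd h2 hr0
      · exact absurd (Cfsg.Agent.Lib.Helper8.SC3G6.eq_one_of_sq_fix e (restr a) f r0 h) hr0
      · have h1' : restr a r0 = r0 := (restr a).injective h
        exact absurd (f r0 h1') hr0
      · exact h
    have h3 : restr a (restr a (restr a r0)) = r0 := by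
      rw [hss, map_mul, hss, Cfsg.Agent.Lib.Helper8.SC3G6.comm_of_sq e r0 (restr a r0), ← mul_assoc]
      have := e (restr a r0); rw [pow_two] at this
      rw [this, one_mul]
    have := congrArg Subtype.val h3
    simpa [restr_coe] using this

end four


section main

variable {A : Subgroup (MulAut X)} {N : Subgroup X} {k : ℕ}

/-- `F_x(v) = (Ec x v)^(2^k)` lies in `R` -/
theorem Fr_mem (c : Ctx3 A N (k + 2)) (hsq : ∀ x : X, ∀ v ∈ N, ∃ m ∈ N, Ec x v = m ^ 2)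
    (x : X) {v : X} (hv : v ∈ N) : (Ec x v) ^ (2 ^ k) ∈ Om1Z X := by
  obtain ⟨m, hm, h⟩ := hsq x v hv
  apply c.om
  · rw [h]; exact N.pow_mem (N.pow_mem hm _) _
  · rw [h, ← pow_mul, ← pow_mul, show 2 * (2 ^ k * 2) = 2 ^ (k + 2) by ring]
    exact c.exp m hm

theorem Fr_mul (c : Ctx3 A N (k + 2)) (x : X) {v w : X} (hv : v ∈ N) (hw : w ∈ N) :
    (Ec x (v * w)) ^ (2 ^ k) = (Ec x v) ^ (2 ^ k) * (Ec x w) ^ (2 ^ k) := by
  rw [Ec_mul_right c.c.nN c.c.ab x hv hw]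
  have hc : Commute (Ec x v) (Ec x w) := c.c.ab _ (Ec_mem c.c.nN x hv) _ (Ec_mem c.c.nN x hw)
  exact hc.mul_pow _

theorem Fr_sq (c : Ctx3 A N (k + 2)) (hsq : ∀ x : X, ∀ v ∈ N, ∃ m ∈ N, Ec x v = m ^ 2)
    (x : X) {m : X} (hm : m ∈ N) : (Ec x (m ^ 2)) ^ (2 ^ k) = 1 := by
  rw [pow_two, Ec_mul_right c.c.nN c.c.ab x hm hm]
  obtain ⟨m', hm', h⟩ := hsq x m hm
  rw [h, ← pow_add, ← pow_mul, show (2 + 2) * 2 ^ k = 2 ^ (k + 2) by ring]
  exact c.exp m' hm'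

theorem Fr_dep (c : Ctx3 A N (k + 2)) (hsq : ∀ x : X, ∀ v ∈ N, ∃ m ∈ N, Ec x v = m ^ 2)
    (x : X) {v v' : X} (hv : v ∈ N) (hv' : v' ∈ N) (h : v ^ (2 ^ (k + 1)) = v' ^ (2 ^ (k + 1))) :
    (Ec x v) ^ (2 ^ k) = (Ec x v') ^ (2 ^ k) := by
  have hd : v⁻¹ * v' ∈ N := N.mul_mem (N.inv_mem hv) hv'
  have hc : Commute v⁻¹ v' := c.c.ab _ (N.inv_mem hv) _ hv'
  have hd1 : (v⁻¹ * v') ^ (2 ^ (k + 1)) = 1 := by
    rw [hc.mul_pow, inv_pow, h, inv_mul_cancel]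
  obtain ⟨u, hu, hdu⟩ := c.div (k + 1) (by omega) _ hd hd1
  have h1 : k + 2 - (k + 1) = 1 := by omega
  rw [h1, pow_one] at hdu
  have hv'eq : v' = v * u ^ 2 := by rw [← hdu]; group
  rw [hv'eq, Fr_mul c x hv (N.pow_mem hu 2), Fr_sq c hsq x hu, mul_one]

theorem Fr_mul_left (c : Ctx3 A N (k + 2)) (hsq : ∀ x : X, ∀ v ∈ N, ∃ m ∈ N, Ec x v = m ^ 2)
    (x y : X) {v : X} (hv : v ∈ N) :
    (Ec (x * y) v) ^ (2 ^ k) = (Ec x v) ^ (2 ^ k) * (Ec y v) ^ (2 ^ k) := by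
  rw [Ec_mul_left]
  have hp := Ec_mem c.c.nN y hv
  have hq := Ec_mem c.c.nN x hv
  have hr := Ec_mem c.c.nN y hq
  have hc1 : Commute (Ec y v * Ec x v) (Ec y (Ec x v)) := c.c.ab _ (N.mul_mem hp hq) _ hr
  have hc2 : Commute (Ec y v) (Ec x v) := c.c.ab _ hp _ hq
  rw [hc1.mul_pow, hc2.mul_pow]
  obtain ⟨m, hm, h⟩ := hsq x v hv
  have h3 : (Ec y (Ec x v)) ^ (2 ^ k) = 1 := by rw [h]; exact Fr_sq c hsq y hm
  rw [h3, mul_one]
  exact c.c.ab _ (N.pow_mem hp _) _ (N.pow_mem hq _)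

theorem Fr_map (φ : MulAut X) (x v : X) (j : ℕ) : (Ec (φ x) (φ v)) ^ j = φ ((Ec x v) ^ j) := by
  rw [← Ec_map, map_pow]

/-- rearrangement with central elements -/
theorem rearr {p1 p2 p3 q1 q2 q3 : X} (hq1 : q1 ∈ Subgroup.center X) (hq2 : q2 ∈ Subgroup.center X) :
    p1 * q1 * (p2 * q2) * (p3 * q3) = p1 * p2 * p3 * (q1 * q2 * q3) := by
  have h1 : ∀ g, q1 * g = g * q1 := fun g => (Subgroup.mem_center_iff.mp hq1 g).symm
  have h2 : ∀ g, q2 * g = g * q2 := fun g => (Subgroup.mem_center_iff.mp hq2 g).symm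
  calc p1 * q1 * (p2 * q2) * (p3 * q3) = p1 * (q1 * p2) * (q2 * p3) * q3 := by group
    _ = p1 * (p2 * q1) * (p3 * q2) * q3 := by rw [h1, h2]
    _ = p1 * p2 * (q1 * p3) * q2 * q3 := by group
    _ = p1 * p2 * (p3 * q1) * q2 * q3 := by rw [h1]
    _ = p1 * p2 * p3 * (q1 * q2 * q3) := by group

/-- cyclic shift of three central elements -/
theorem shift3 {t1 t2 t3 : X} (h3 : t3 ∈ Subgroup.center X) : t1 * t2 * t3 = t3 * t1 * t2 := by
  have := Subgroup.mem_center_iff.mp h3 (t1 * t2)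
  rw [this, mul_assoc]

/-- the `a`-trace of `F_x` -/
def Tr (k : ℕ) (a : MulAut X) (x v : X) : X :=
  (Ec x v) ^ (2 ^ k) * a ((Ec x (a⁻¹ v)) ^ (2 ^ k)) * a (a ((Ec x (a⁻¹ (a⁻¹ v))) ^ (2 ^ k)))

theorem Tr_one (a : MulAut X) (v : X) : Tr k a 1 v = 1 := by
  unfold Tr; simp [Ec_one]

theorem Tr_mul (c : Ctx3 A N (k + 2)) (hsq : ∀ x : X, ∀ v ∈ N, ∃ m ∈ N, Ec x v = m ^ 2)
    (a : MulAut X) (ha : a ∈ A) (x y : X) {v : X} (hv : v ∈ N) :
    Tr k a (x * y) v = Tr k a x v * Tr k a y v := by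
  have hai : a⁻¹ ∈ A := A.inv_mem ha
  have hv1 : a⁻¹ v ∈ N := c.c.inv _ hai _ hv
  have hv2 : a⁻¹ (a⁻¹ v) ∈ N := c.c.inv _ hai _ hv1
  unfold Tr
  rw [Fr_mul_left c hsq x y hv, Fr_mul_left c hsq x y hv1, Fr_mul_left c hsq x y hv2, map_mul,
    map_mul, map_mul]
  exact rearr (Fr_mem c hsq y hv).1 (aut_mem_R a (Fr_mem c hsq y hv1)).1

/-- `F_{φ y}` depends only on `φ` restricted to `R` -/
theorem Fr_congr (c : Ctx3 A N (k + 2)) (hsq : ∀ x : X, ∀ v ∈ N, ∃ m ∈ N, Ec x v = m ^ 2)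
    (φ ψ : MulAut X) (hφ : ∀ v ∈ N, φ⁻¹ v ∈ N) (hψ : ∀ v ∈ N, ψ⁻¹ v ∈ N)
    (h : ∀ r ∈ Om1Z X, φ r = ψ r) (y : X) {w : X} (hw : w ∈ N) :
    (Ec (φ y) w) ^ (2 ^ k) = (Ec (ψ y) w) ^ (2 ^ k) := by
  have hinv : ∀ r ∈ Om1Z X, φ⁻¹ r = ψ⁻¹ r := by
    intro r hr
    have h1 := h (ψ⁻¹ r) (aut_mem_R ψ⁻¹ hr)
    have h2 : φ (ψ⁻¹ r) = r := by rw [h1]; simp
    have h3 : φ⁻¹ (φ (ψ⁻¹ r)) = φ⁻¹ r := by rw [h2]
    rw [MulAut.inv_apply_self] at h3
    exact h3.symm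
  have hwR : w ^ (2 ^ (k + 1)) ∈ Om1Z X := by
    apply c.om _ (N.pow_mem hw _)
    rw [← pow_mul, show 2 ^ (k + 1) * 2 = 2 ^ (k + 2) by ring]
    exact c.exp w hw
  have e1 : (Ec (φ y) w) ^ (2 ^ k) = φ ((Ec y (φ⁻¹ w)) ^ (2 ^ k)) := by
    rw [← Fr_map]; simp
  have e2 : (Ec (ψ y) w) ^ (2 ^ k) = ψ ((Ec y (ψ⁻¹ w)) ^ (2 ^ k)) := by
    rw [← Fr_map]; simp
  have e3 : (Ec y (φ⁻¹ w)) ^ (2 ^ k) = (Ec y (ψ⁻¹ w)) ^ (2 ^ k) := by
    apply Fr_dep c hsq y (hφ w hw) (hψ w hw)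
    rw [← map_pow, ← map_pow]
    exact hinv _ hwR
  rw [e1, e2, e3]
  exact h _ (Fr_mem c hsq y (hψ w hw))

theorem Tr_congr (c : Ctx3 A N (k + 2)) (hsq : ∀ x : X, ∀ v ∈ N, ∃ m ∈ N, Ec x v = m ^ 2)
    (a : MulAut X) (ha : a ∈ A)
    (φ ψ : MulAut X) (hφ : ∀ v ∈ N, φ⁻¹ v ∈ N) (hψ : ∀ v ∈ N, ψ⁻¹ v ∈ N)
    (h : ∀ r ∈ Om1Z X, φ r = ψ r) (y : X) {v : X} (hv : v ∈ N) :
    Tr k a (φ y) v = Tr k a (ψ y) v := by
  have hai : a⁻¹ ∈ A := A.inv_mem ha
  have hv1 : a⁻¹ v ∈ N := c.c.inv _ hai _ hv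
  have hv2 : a⁻¹ (a⁻¹ v) ∈ N := c.c.inv _ hai _ hv1
  unfold Tr
  rw [Fr_congr c hsq φ ψ hφ hψ h y hv, Fr_congr c hsq φ ψ hφ hψ h y hv1,
    Fr_congr c hsq φ ψ hφ hψ h y hv2]

theorem Tr_shift (c : Ctx3 A N (k + 2)) (hsq : ∀ x : X, ∀ v ∈ N, ∃ m ∈ N, Ec x v = m ^ 2)
    (a : MulAut X) (ha : a ∈ A) (hmove : ∀ r ∈ Om1Z X, a r = r → r = 1) (y : X) {v : X}
    (hv : v ∈ N) : Tr k a (a y) v = Tr k a y v := by
  have hai : a⁻¹ ∈ A := A.inv_mem ha
  have hv1 : a⁻¹ v ∈ N := c.c.inv _ hai _ hv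
  have hv2 : a⁻¹ (a⁻¹ v) ∈ N := c.c.inv _ hai _ hv1
  have hv3 : a⁻¹ (a⁻¹ (a⁻¹ v)) ∈ N := c.c.inv _ hai _ hv2
  have hcube := a_cube c.R4 a hmove
  have hcube' : ∀ r ∈ Om1Z X, a⁻¹ (a⁻¹ (a⁻¹ r)) = r := by
    intro r hr
    have := hcube r hr
    have h2 := congrArg (fun z => a⁻¹ (a⁻¹ (a⁻¹ z))) this
    simpa using h2.symm
  have e : ∀ w : X, (Ec (a y) w) ^ (2 ^ k) = a ((Ec y (a⁻¹ w)) ^ (2 ^ k)) := by
    intro w; rw [← Fr_map]; simp
  have hvR : v ^ (2 ^ (k + 1)) ∈ Om1Z X := by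
    apply c.om _ (N.pow_mem hv _)
    rw [← pow_mul, show 2 ^ (k + 1) * 2 = 2 ^ (k + 2) by ring]
    exact c.exp v hv
  have e3 : (Ec y (a⁻¹ (a⁻¹ (a⁻¹ v)))) ^ (2 ^ k) = (Ec y v) ^ (2 ^ k) := by
    apply Fr_dep c hsq y hv3 hv
    rw [← map_pow, ← map_pow, ← map_pow]
    exact hcube' _ hvR
  unfold Tr
  rw [e, e, e, e3, hcube _ (Fr_mem c hsq y hv)]
  -- goal: T2 * T3 * T1 = T1 * T2 * T3
  rw [shift3 (Fr_mem c hsq y hv).1]

end main

end Q06

variable {X : Type*} [Group X] {A : Subgroup (MulAut X)} {N : Subgroup X} {n : ℕ}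

open Q06 in

theorem norm_zero [Finite X] (c : Ctx3 A N n) (hsq : ∀ x : X, ∀ v ∈ N, ∃ m ∈ N, Ec x v = m ^ 2)
    (a : MulAut X) (ha : a ∈ A) (hmove : ∀ r ∈ Om1Z X, a r = r → r = 1) (x : X) :
    ∀ v ∈ N, ∃ m ∈ N, Ec x v * a (Ec x (a⁻¹ v)) * a (a (Ec x (a⁻¹ (a⁻¹ v)))) = m ^ 4 := by
  obtain ⟨k, rfl⟩ : ∃ k, n = k + 2 := ⟨n - 2, by have := c.two_le; omega⟩
  have hai : a⁻¹ ∈ A := A.inv_mem ha
  have hoddA : ∀ ψ ∈ A, Odd (orderOf ψ) := fun ψ hψ =>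
    Cfsg.Agent.Lib.Helper9.SC3G.orderOf_odd_of_mem c.c.hyp.odd hψ
  have hinvN : ∀ φ ∈ A, ∀ v ∈ N, φ⁻¹ v ∈ N := fun φ hφ v hv => c.c.inv _ (A.inv_mem hφ) v hv
  -- the trace vanishes identically
  have hTr : ∀ x : X, ∀ v ∈ N, Tr k a x v = 1 := by
    intro x
    have hx : x ∈ Subgroup.closure {g : X | ∃ φ ∈ A, ∃ x : X, g = x⁻¹ * φ x} := by
      rw [c.c.hyp.gen]; exact Subgroup.mem_top x
    induction hx using Subgroup.closure_induction with
    | mem g hg =>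
      obtain ⟨φ, hφ, y, rfl⟩ := hg
      intro v hv
      -- Tr (φ y) v = Tr y v
      have hinvar : Tr k a (φ y) v = Tr k a y v := by
        have hA : ∀ ψ : MulAut X, ψ = φ ∨ ψ = a⁻¹ * φ ∨ ψ = a⁻¹ * a⁻¹ * φ → Odd (orderOf ψ) := by
          rintro ψ (rfl | rfl | rfl)
          · exact hoddA _ hφ
          · exact hoddA _ (A.mul_mem hai hφ)
          · exact hoddA _ (A.mul_mem (A.mul_mem hai hai) hφ)
        rcases aut_cases c.R4 a hmove φ hA with h | h | h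
        · have := Tr_congr c hsq a ha φ 1 (hinvN φ hφ) (fun v hv => by simpa using hv)
            (fun r hr => by rw [h r hr]; rfl) y hv
          simpa using this
        · have := Tr_congr c hsq a ha φ a (hinvN φ hφ) (hinvN a ha) h y hv
          rw [this, Tr_shift c hsq a ha hmove y hv]
        · have := Tr_congr c hsq a ha φ (a * a) (hinvN φ hφ) (hinvN _ (A.mul_mem ha ha))
            (fun r hr => by rw [h r hr]; rfl) y hv
          rw [this, MulAut.mul_apply, Tr_shift c hsq a ha hmove (a y) hv,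
            Tr_shift c hsq a ha hmove y hv]
      rw [Tr_mul c hsq a ha _ _ hv, hinvar, ← Tr_mul c hsq a ha _ _ hv, inv_mul_cancel, Tr_one]
    | one => intro v _; exact Tr_one a v
    | mul p q _ _ hp hq =>
      intro v hv
      rw [Tr_mul c hsq a ha p q hv, hp v hv, hq v hv, mul_one]
    | inv p _ hp =>
      intro v hv
      have h1 := Tr_mul c hsq a ha p p⁻¹ hv
      rw [mul_inv_cancel, Tr_one, hp v hv, one_mul] at h1
      exact h1.symm
  intro v hv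
  have hv1 : a⁻¹ v ∈ N := c.c.inv _ hai _ hv
  have hv2 : a⁻¹ (a⁻¹ v) ∈ N := c.c.inv _ hai _ hv1
  obtain ⟨m1, hm1, h1⟩ := hsq x v hv
  obtain ⟨m2, hm2, h2⟩ := hsq x _ hv1
  obtain ⟨m3, hm3, h3⟩ := hsq x _ hv2
  have ha2 : a m2 ∈ N := c.c.inv _ ha _ hm2
  have ha3 : a (a m3) ∈ N := c.c.inv _ ha _ (c.c.inv _ ha _ hm3)
  set m0 := m1 * a m2 * a (a m3) with hm0
  have hm0N : m0 ∈ N := N.mul_mem (N.mul_mem hm1 ha2) ha3
  have hc1 : Commute (m1 * a m2) (a (a m3)) := c.c.ab _ (N.mul_mem hm1 ha2) _ ha3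
  have hc2 : Commute m1 (a m2) := c.c.ab _ hm1 _ ha2
  have hν : Ec x v * a (Ec x (a⁻¹ v)) * a (a (Ec x (a⁻¹ (a⁻¹ v)))) = m0 ^ 2 := by
    rw [h1, h2, h3, hm0, hc1.mul_pow, hc2.mul_pow, map_pow, map_pow, map_pow]
  have hE1 : Ec x v ∈ N := Ec_mem c.c.nN x hv
  have hE2 : a (Ec x (a⁻¹ v)) ∈ N := c.c.inv _ ha _ (Ec_mem c.c.nN x hv1)
  have hE3 : a (a (Ec x (a⁻¹ (a⁻¹ v)))) ∈ N := c.c.inv _ ha _ (c.c.inv _ ha _ (Ec_mem c.c.nN x hv2))
  have hcA : Commute (Ec x v * a (Ec x (a⁻¹ v))) (a (a (Ec x (a⁻¹ (a⁻¹ v))))) :=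
    c.c.ab _ (N.mul_mem hE1 hE2) _ hE3
  have hcB : Commute (Ec x v) (a (Ec x (a⁻¹ v))) := c.c.ab _ hE1 _ hE2
  have hνpow : (Ec x v * a (Ec x (a⁻¹ v)) * a (a (Ec x (a⁻¹ (a⁻¹ v))))) ^ (2 ^ k) = Tr k a x v := by
    unfold Tr
    rw [hcA.mul_pow, hcB.mul_pow, map_pow, map_pow, map_pow]
  have hpow : m0 ^ (2 ^ (k + 1)) = 1 := by
    rw [show 2 ^ (k + 1) = 2 * 2 ^ k by ring, pow_mul, ← hν, hνpow, hTr x v hv]
  obtain ⟨u, hu, hmu⟩ := c.div (k + 1) (by omega) m0 hm0N hpow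
  have hk : k + 2 - (k + 1) = 1 := by omega
  rw [hk, pow_one] at hmu
  refine ⟨u, hu, ?_⟩
  rw [hν, hmu, ← pow_mul]

end Cfsg.Agent.Lib.Helper12.SC3.PC2
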